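import Groth.Agent.Lib.Cech.Complex
import Mathlib.Topology.Sheaves.SheafCondition.UniqueGluing
import Mathlib.Topology.Sheaves.Stalks
import Mathlib.Algebra.Category.Grp.FilteredColimits
import Mathlib.CategoryTheory.Preadditive.Injective.Basic
import Mathlib.CategoryTheory.Sites.Limits
import Mathlib.RingTheory.Ideal.Span
import Mathlib.RingTheory.Ideal.Operations
import Mathlib.CategoryTheory.Sites.Abelian

/-!
# Vanishing of Cech cohomology

* `exactSucc_of_localization`: finite families behaving like basic opens generating the unit ideal.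
* `exactSucc_god`, `exactSucc_of_injective`: Godement sheaves and injective abelian sheaves.
-/

universe u

open CategoryTheory CategoryTheory.Limits TopologicalSpace Opposite

namespace Groth.Agent.Lib.Cech.Acyclic

open Groth.Agent.Lib.Cech.Complex

variable {X : TopCat.{u}} {ι : Type u} (U : ι → Opens X)

lemma inter_cons_le {q : ℕ} (k : ι) (i : Fin (q + 1) → ι) :
    inter U (Fin.cons k i : Fin (q + 2) → ι) ≤ inter U i :=
  inter_mono U _ _ fun b => ⟨b.succ, by simp⟩

lemma cons_comp_succAbove_zero {q : ℕ} (k : ι) (i : Fin (q + 1) → ι) :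
    (Fin.cons k i : Fin (q + 2) → ι) ∘ (0 : Fin (q + 2)).succAbove = i := by
  funext b; simp

lemma cons_comp_succAbove_succ {q : ℕ} (k : ι) (i : Fin (q + 2) → ι) (a : Fin (q + 2)) :
    (Fin.cons k i : Fin (q + 3) → ι) ∘ a.succ.succAbove =
      (Fin.cons k (i ∘ a.succAbove) : Fin (q + 2) → ι) := by
  funext b
  induction b using Fin.cases with
  | zero => simp
  | succ b => simp [Fin.succ_succAbove_succ]

variable (P : (Opens X)ᵒᵖ ⥤ AddCommGrpCat.{u})

/-- The cocycle identity, split off at the first index. -/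
lemma cocycle_cons {q : ℕ} (c : Cochain U P (q + 1)) (hc : dC U P (q + 1) c = 0)
    (k : ι) (j : Fin (q + 2) → ι) :
    res P (inter_cons_le U k j) (c j) =
      ∑ a : Fin (q + 2), (-1 : ℤ) ^ (a : ℕ) •
        res P (inter_mono U _ _ (fun b => by
          induction b using Fin.cases with
          | zero => exact ⟨0, by simp⟩
          | succ b => exact ⟨(a.succAbove b).succ, by simp⟩))
          (c (Fin.cons k (j ∘ a.succAbove))) := by
  have h := congr_fun hc (Fin.cons k j)
  rw [dC_apply, Fin.sum_univ_succ] at h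
  simp only [Fin.val_zero, pow_zero, one_smul, Pi.zero_apply, Fin.val_succ] at h
  rw [cochain_congr U P c (cons_comp_succAbove_zero k j) _ (inter_cons_le U k j)] at h
  rw [eq_neg_of_add_eq_zero_left h, ← Finset.sum_neg_distrib]
  refine Finset.sum_congr rfl fun a _ => ?_
  rw [cochain_congr U P c (cons_comp_succAbove_succ k j a) _
    (inter_mono U _ _ (fun b => by
          induction b using Fin.cases with
          | zero => exact ⟨0, by simp⟩
          | succ b => exact ⟨(a.succAbove b).succ, by simp⟩))]
  rw [← neg_smul]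
  congr 1
  ring

section Localization

variable {R : Type u} [CommRing R]
  [∀ (q : ℕ) (i : Fin (q + 1) → ι), Module R (P.obj (op (inter U i)))]

/-- If the restriction maps to the intersections with `U k` behave like localisations away from
`f k`, and the `f k` generate the unit ideal, the Cech complex is exact in positive degrees. -/
theorem exactSucc_of_localization [Finite ι] (f : ι → R) (hf : Ideal.span (Set.range f) = ⊤)
    (hres : ∀ {p q : ℕ} (i : Fin (q + 1) → ι) (j : Fin (p + 1) → ι) (h : inter U i ≤ inter U j)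
      (r : R) (x : P.obj (op (inter U j))), res P h (r • x) = r • res P h x)
    (hinj : ∀ {q : ℕ} (i : Fin (q + 1) → ι) (k : ι) (t : P.obj (op (inter U i))),
      res P (inter_cons_le U k i) t = 0 → ∃ n : ℕ, f k ^ n • t = 0)
    (hsurj : ∀ {q : ℕ} (i : Fin (q + 1) → ι) (k : ι)
      (s : P.obj (op (inter U (Fin.cons k i : Fin (q + 2) → ι)))),
      ∃ (n : ℕ) (t : P.obj (op (inter U i))), res P (inter_cons_le U k i) t = f k ^ n • s)
    (q : ℕ) : ExactSucc U P q := by
  intro c hc
  have : Fintype ι := Fintype.ofFinite ι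
  classical
  have hd : ∀ (q : ℕ) (r : R) (b : Cochain U P q), dC U P q (r • b) = r • dC U P q b := by
    intro q r b
    funext i
    simp only [dC_apply, Pi.smul_apply, Finset.smul_sum, hres]
    exact Finset.sum_congr rfl fun _ _ => smul_comm _ _ _
  have key : ∀ k, ∃ (M : ℕ) (b : Cochain U P q), dC U P q b = f k ^ M • c := by
    intro k
    choose n t ht using fun i : Fin (q + 1) → ι => hsurj i k (c (Fin.cons k i))
    let N := Finset.univ.sup n
    let b : Cochain U P q := fun i => f k ^ (N - n i) • t i
    have hb : ∀ i, res P (inter_cons_le U k i) (b i) = f k ^ N • c (Fin.cons k i) := fun i => by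
      rw [hres, ht, smul_smul, ← pow_add, Nat.sub_add_cancel (Finset.le_sup (Finset.mem_univ i))]
    have hz : ∀ j : Fin (q + 2) → ι,
        res P (inter_cons_le U k j) (dC U P q b j - f k ^ N • c j) = 0 := by
      intro j
      rw [map_sub, sub_eq_zero, hres, cocycle_cons U P c hc k j, Finset.smul_sum, dC_apply,
        map_sum]
      refine Finset.sum_congr rfl fun a _ => ?_
      rw [map_zsmul, res_res]
      have h1 : inter U (Fin.cons k j : Fin (q + 3) → ι) ≤
          inter U (Fin.cons k (j ∘ a.succAbove) : Fin (q + 2) → ι) :=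
        inter_mono U _ _ (fun b => by
          induction b using Fin.cases with
          | zero => exact ⟨0, by simp⟩
          | succ b => exact ⟨(a.succAbove b).succ, by simp⟩)
      rw [show res P _ (b (j ∘ a.succAbove)) =
        res P h1 (res P (inter_cons_le U k _) (b (j ∘ a.succAbove))) from (res_res P _ _ _).symm,
        hb, hres, smul_comm]
    choose m hm using fun j => hinj j k _ (hz j)
    let M := Finset.univ.sup m
    refine ⟨M + N, f k ^ M • b, ?_⟩
    rw [hd, pow_add, mul_smul]
    funext j
    simp only [Pi.smul_apply]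
    rw [← sub_eq_zero, ← smul_sub, show M = (M - m j) + m j from
      (Nat.sub_add_cancel (Finset.le_sup (Finset.mem_univ j))).symm, pow_add, mul_smul, hm,
      smul_zero]
  let J : Ideal R :=
    { carrier := {r | ∃ b, dC U P q b = r • c}
      add_mem' := fun {r s} ⟨b, hb⟩ ⟨b', hb'⟩ => ⟨b + b', by rw [map_add, hb, hb', add_smul]⟩
      zero_mem' := ⟨0, by simp⟩
      smul_mem' := fun r s ⟨b, hb⟩ => ⟨r • b, by rw [hd, hb, smul_smul, smul_eq_mul]⟩ }
  choose M hM using key
  have : (⊤ : Ideal R) ≤ J := by
    rw [← Ideal.span_pow_eq_top _ hf (Finset.univ.sup M), Ideal.span_le]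
    rintro _ ⟨_, ⟨k, rfl⟩, rfl⟩
    obtain ⟨b, hb⟩ := hM k
    refine ⟨f k ^ (Finset.univ.sup M - M k) • b, ?_⟩
    rw [hd, hb, smul_smul, ← pow_add, Nat.sub_add_cancel (Finset.le_sup (Finset.mem_univ k))]
  obtain ⟨b, hb⟩ := this (Submodule.mem_top (x := (1 : R)))
  exact ⟨b, by rw [hb, one_smul]⟩

end Localization

section Godement

variable (A : X → AddCommGrpCat.{u})

/-- The presheaf `W ↦ Π x : W, A x`. -/
noncomputable def godPre : (Opens X)ᵒᵖ ⥤ AddCommGrpCat.{u} where
  obj W := AddCommGrpCat.of (∀ x : (W.unop : Set X), A x.1)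
  map {_ _} h := AddCommGrpCat.ofHom
    (AddMonoidHom.mk' (fun s x => s ⟨x.1, leOfHom h.unop x.2⟩) fun _ _ => rfl)

lemma godPre_res_apply {V W : Opens X} (h : V ≤ W) (s : (godPre A).obj (op W)) (x : (V : Set X)) :
    res (godPre A) h s x = s ⟨x.1, h x.2⟩ := rfl

lemma godPre_isSheaf : TopCat.Presheaf.IsSheaf (C := AddCommGrpCat.{u}) (godPre A) := by
  rw [TopCat.Presheaf.isSheaf_iff_isSheafUniqueGluing]
  intro κ V sf hsf
  have hmem : ∀ x : ((iSup V : Opens X) : Set X), ∃ i, x.1 ∈ V i :=
    fun x => Opens.mem_iSup.mp x.2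
  choose i hi using hmem
  have hagree : ∀ (a b : κ) (x : X) (ha : x ∈ V a) (hb : x ∈ V b),
      sf a ⟨x, ha⟩ = sf b ⟨x, hb⟩ := fun a b x ha hb => congr_fun (hsf a b) ⟨x, ha, hb⟩
  refine ⟨fun x => sf (i x) ⟨x.1, hi x⟩, fun a => funext fun y => ?_, fun s hs => funext fun x => ?_⟩
  · exact hagree _ a y.1 _ y.2
  · exact congr_fun (hs (i x)) ⟨x.1, hi x⟩

/-- The sheaf `W ↦ Π x : W, A x`. -/
noncomputable def god : Sheaf (Opens.grothendieckTopology X) AddCommGrpCat.{u} :=
  ⟨godPre A, godPre_isSheaf A⟩

lemma godPre_sum_apply {V : Opens X} {α : Type*} (s : Finset α) (g : α → (godPre A).obj (op V))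
    (x : (V : Set X)) : (∑ a ∈ s, g a) x = ∑ a ∈ s, g a x :=
  Finset.sum_apply x s g

theorem exactSucc_god (q : ℕ) : ExactSucc U (godPre A) q := by
  classical
  intro c hc
  let b : Cochain U (godPre A) q := fun i x =>
    have ex : ∃ k, x.1 ∈ U k := ⟨i 0, inter_le U i 0 x.2⟩
    c (Fin.cons ex.choose i) ⟨x.1, by
      have hk := ex.choose_spec
      have hx := x.2
      simp only [SetLike.mem_coe, inter, Opens.coe_iInf, Set.mem_iInter] at hx ⊢
      intro a
      induction a using Fin.cases with
      | zero => simpa using hk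
      | succ a => simpa using hx a⟩
  refine ⟨b, funext fun j => funext fun x => ?_⟩
  have hxj : ∀ a, x.1 ∈ U (j a) := fun a => inter_le U j a x.2
  have ex : ∃ k, x.1 ∈ U k := ⟨j 0, hxj 0⟩
  have hmem : x.1 ∈ inter U (Fin.cons ex.choose j : Fin (q + 3) → ι) := by
    simp only [inter, ← SetLike.mem_coe, Opens.coe_iInf, Set.mem_iInter]
    intro a
    induction a using Fin.cases with
    | zero => simpa using ex.choose_spec
    | succ a => simpa using hxj a
  have h := congr_fun (cocycle_cons U (godPre A) c hc ex.choose j) ⟨x.1, hmem⟩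
  rw [godPre_res_apply, godPre_sum_apply] at h
  rw [show c j x = _ from h, dC_apply, godPre_sum_apply]
  rfl

/-- The canonical map of an abelian sheaf to the Godement sheaf of its stalks. -/
noncomputable def toGod (F : Sheaf (Opens.grothendieckTopology X) AddCommGrpCat.{u}) :
    F ⟶ god (fun x => TopCat.Presheaf.stalk (C := AddCommGrpCat.{u}) (X := X) F.obj x) :=
  ⟨{ app := fun W => AddCommGrpCat.ofHom (AddMonoidHom.mk'
      (fun s x => TopCat.Presheaf.germ (C := AddCommGrpCat.{u}) (X := X) F.obj W.unop x.1 x.2 s)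
      (fun s t => funext fun x => map_add _ s t))
     naturality := fun W W' h => by
      ext s
      funext x
      exact TopCat.Presheaf.germ_res_apply (C := AddCommGrpCat.{u}) (X := X) F.obj h.unop x.1 x.2 s }⟩

lemma toGod_injective (F : Sheaf (Opens.grothendieckTopology X) AddCommGrpCat.{u})
    (W : (Opens X)ᵒᵖ) : Function.Injective ((toGod F).hom.app W) := fun s t h =>
  TopCat.Presheaf.section_ext (C := AddCommGrpCat.{u}) (X := X) F W.unop s t
    fun x hx => congr_fun h ⟨x, hx⟩

instance mono_toGod (F : Sheaf (Opens.grothendieckTopology X) AddCommGrpCat.{u}) :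
    Mono (toGod F) := by
  have : ∀ W, Mono ((toGod F).hom.app W) := fun W =>
    (AddCommGrpCat.mono_iff_injective _).mpr (toGod_injective F W)
  have : Mono (toGod F).hom := NatTrans.mono_of_mono_app _
  exact (sheafToPresheaf _ _).mono_of_mono_map (this : Mono ((sheafToPresheaf _ _).map (toGod F)))

end Godement

/-- An injective abelian sheaf has exact Cech complexes in positive degrees. -/
theorem exactSucc_of_injective (F : Sheaf (Opens.grothendieckTopology X) AddCommGrpCat.{u})
    [Injective F] (q : ℕ) : ExactSucc U F.obj q := by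
  intro c hc
  obtain ⟨b, hb⟩ := exactSucc_god U (fun x => TopCat.Presheaf.stalk (C := AddCommGrpCat.{u})
    (X := X) F.obj x) q (Complex.map (toGod F).hom (q + 1) c)
      (by erw [← map_dC, hc, map_zero])
  let r := Injective.factorThru (𝟙 F) (toGod F)
  have hr : toGod F ≫ r = 𝟙 F := Injective.comp_factorThru _ _
  refine ⟨Complex.map r.hom q b, ?_⟩
  erw [← map_dC, hb]
  funext i
  exact ConcreteCategory.congr_hom (congrArg (fun φ => φ.hom.app (op (inter U i))) hr) (c i)

end Groth.Agent.Lib.Cech.Acyclic
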