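import Groth.Agent.Lib.Cech.Sections
import Groth.Agent.Lib.Cech.Acyclic
import Mathlib.CategoryTheory.Abelian.GrothendieckCategory.EnoughInjectives

/-!
# Cartan's criterion: vanishing of Cech cohomology on a basis gives vanishing of cohomology
-/

universe u

open CategoryTheory CategoryTheory.Limits TopologicalSpace Opposite CategoryTheory.Abelian

namespace Groth.Agent.Lib.Cech.Criterion

open Groth.Agent.Lib.Cech.Complex Groth.Agent.Lib.Cech.Sections Groth.Agent.Lib.Cech.Acyclic

variable {X : TopCat.{u}}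

lemma inter_mem (B : Set (Opens X)) (hB : ∀ V ∈ B, ∀ W ∈ B, V ⊓ W ∈ B) {ι : Type u}
    (U : ι → Opens X) (hU : ∀ i, U i ∈ B) {q : ℕ} (i : Fin (q + 1) → ι) : inter U i ∈ B := by
  induction q with
  | zero =>
    have : inter U i = U (i 0) := le_antisymm (inter_le U i 0)
      (le_iInf fun a => by rw [Subsingleton.elim (α := Fin 1) a 0])
    rw [this]; exact hU _
  | succ q ih =>
    have : inter U i = U (i 0) ⊓ inter U (i ∘ Fin.succ) :=
      le_antisymm (le_inf (inter_le U i 0) (le_iInf fun b => inter_le U i b.succ))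
        (le_iInf fun a => by
          induction a using Fin.cases with
          | zero => exact inf_le_left
          | succ b => exact inf_le_right.trans (inter_le U (i ∘ Fin.succ) b))
    rw [this]; exact hB _ (hU _) _ (ih _)

variable {S : ShortComplex (CohTop.Ab X)} (hS : S.ShortExact)

include hS in
/-- Cochains that die in the quotient come from the subsheaf. -/
lemma exists_map_eq {ι : Type u} (U : ι → Opens X) (q : ℕ) (b : Cochain U S.X₂.obj q)
    (h : Complex.map S.g.hom q b = 0) : ∃ a, Complex.map S.f.hom q a = b := by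
  choose t ht using fun i => app_exact hS _ (b i) (congr_fun h i)
  exact ⟨t, funext ht⟩

include hS in
lemma map_f_injective {ι : Type u} (U : ι → Opens X) (q : ℕ) :
    Function.Injective (Complex.map (U := U) S.f.hom q) :=
  fun _ _ h => funext fun i => app_injective hS _ (congr_fun h i)

include hS in
/-- Sections lift through an epimorphism when suitable first Cech groups of the kernel vanish. -/
theorem app_surjective_of_exactSucc (W : Opens X)
    (h : ∀ V : W → Opens X, (∀ x, x.1 ∈ V x) →
      ∃ (ι : Type u) (U : ι → Opens X),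
        iSup U = W ∧ (∀ i, ∃ x, U i ≤ V x) ∧ ExactSucc U S.X₁.obj 0) :
    Function.Surjective (S.g.hom.app (op W)) := by
  intro s
  have hls : TopCat.Presheaf.IsLocallySurjective S.g.hom :=
    (TopCat.Sheaf.isLocallySurjective_iff_epi S.g).mpr hS.epi_g
  have hloc : ∀ x : W, ∃ (V : Opens X) (hV : V ≤ W) (t : S.X₂.obj.obj (op V)),
      x.1 ∈ V ∧ S.g.hom.app (op V) t = res S.X₃.obj hV s := fun x => by
    obtain ⟨V, hV, ⟨t, ht⟩, hx⟩ :=
      (TopCat.Presheaf.isLocallySurjective_iff S.g.hom).mp hls W s x.1 x.2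
    exact ⟨V, hV, t, hx, ht⟩
  choose V hV t hx ht using hloc
  obtain ⟨ι, U, hUW, hUV, hex⟩ := h V hx
  choose y hy using hUV
  have hU : ∀ i, U i ≤ W := fun i => (le_iSup U i).trans hUW.le
  let t' : Cochain U S.X₂.obj 0 :=
    fun i => res S.X₂.obj ((inter_le U i 0).trans (hy _)) (t (y (i 0)))
  have ht' : Complex.map S.g.hom 0 t' = aug U S.X₃.obj hU s := funext fun i => by
    show S.g.hom.app _ (res S.X₂.obj _ _) = _
    rw [res_naturality, ht, res_res]
    rfl
  obtain ⟨c, hc⟩ := exists_map_eq hS U 1 (dC U S.X₂.obj 0 t')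
    (by rw [map_dC, ht', dC_aug])
  obtain ⟨b, hb⟩ := hex c (map_f_injective hS U 2 (by rw [map_dC, hc, dC_dC, map_zero]))
  obtain ⟨r, hr⟩ := exists_aug_eq U S.X₂ hUW (t' - Complex.map S.f.hom 0 b)
    (by rw [map_sub, ← map_dC, hb, hc, sub_self])
  refine ⟨r, aug_injective U S.X₃ hUW ?_⟩
  rw [← ht']
  refine funext fun i => ?_
  have := congrArg (S.g.hom.app (op (inter U i))) (congr_fun hr i)
  rw [Pi.sub_apply, map_sub] at this
  erw [app_zero, sub_zero] at this
  rw [map_apply]
  refine Eq.trans ?_ this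
  exact (res_naturality S.g.hom _ r).symm

include hS in
/-- The quotient of an injective sheaf by a Cech-acyclic one is Cech-acyclic, given surjectivity
of sections on the intersections. -/
theorem exactSucc_X₃ [Injective S.X₂] {ι : Type u} (U : ι → Opens X)
    (hsurj : ∀ (q : ℕ) (i : Fin (q + 1) → ι), Function.Surjective (S.g.hom.app (op (inter U i))))
    (hF : ∀ q, ExactSucc U S.X₁.obj q) (q : ℕ) : ExactSucc U S.X₃.obj q := by
  intro c hc
  choose t ht using fun i => hsurj (q + 1) i (c i)
  have ht' : Complex.map S.g.hom (q + 1) t = c := funext ht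
  obtain ⟨a, ha⟩ := exists_map_eq hS U (q + 2) (dC U S.X₂.obj (q + 1) t)
    (by rw [map_dC, ht', hc])
  obtain ⟨b, hb⟩ := hF (q + 1) a (map_f_injective hS U (q + 3)
    (by rw [map_dC, ha, dC_dC, map_zero]))
  obtain ⟨e, he⟩ := exactSucc_of_injective U S.X₂ q (t - Complex.map S.f.hom (q + 1) b)
    (by rw [map_sub, ← map_dC, hb, ha, sub_self])
  refine ⟨Complex.map S.g.hom q e, ?_⟩
  rw [← map_dC, he, map_sub, ht']
  refine sub_eq_self.mpr (funext fun i => ?_)
  exact app_zero _ _

/-- **Cartan's criterion.** If `B` is stable under intersections, every cover of a member of `B`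
is refined by one of the coverings in `Cov`, and `F` has vanishing Cech cohomology in positive
degrees for the coverings in `Cov`, then the higher cohomology of `F` vanishes on `B`. -/
theorem subsingleton_HU_of_cech_vanishing (B : Set (Opens X))
    (hB : ∀ V ∈ B, ∀ W ∈ B, V ⊓ W ∈ B)
    (Cov : ∀ (W : Opens X) (ι : Type u), (ι → Opens X) → Prop)
    (hCov : ∀ W ι U, Cov W ι U → iSup U = W ∧ ∀ i, U i ∈ B)
    (hrefine : ∀ W ∈ B, ∀ V : W → Opens X, (∀ x, x.1 ∈ V x) →
      ∃ ι U, Cov W ι U ∧ ∀ i, ∃ x, U i ≤ V x)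
    (F : CohTop.Ab X) (hF : ∀ W ι U, Cov W ι U → ∀ q, ExactSucc U F.obj q)
    (W : Opens X) (hW : W ∈ B) (n : ℕ) : Subsingleton (CohTop.HU F (n + 1) W) := by
  induction n generalizing F W with
  | zero =>
    have hS := cokerSeq_shortExact (Injective.ι F)
    have : Injective (cokerSeq (Injective.ι F)).X₂ := inferInstanceAs (Injective (Injective.under F))
    refine subsingleton_HU_one hS W (app_surjective_of_exactSucc hS W fun V hV => ?_)
    obtain ⟨ι, U, hU, hUV⟩ := hrefine W hW V hV
    exact ⟨ι, U, (hCov _ _ _ hU).1, hUV, hF W ι U hU 0⟩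
  | succ n ih =>
    have hS := cokerSeq_shortExact (Injective.ι F)
    have : Injective (cokerSeq (Injective.ι F)).X₂ := inferInstanceAs (Injective (Injective.under F))
    have := ih (cokerSeq (Injective.ι F)).X₃ (fun W' ι U hU q => exactSucc_X₃ hS U
      (fun q i => app_surjective_of_exactSucc hS _ fun V hV => by
        obtain ⟨ι', U', hU', hUV⟩ := hrefine _ (inter_mem B hB U (hCov _ _ _ hU).2 i) V hV
        exact ⟨ι', U', (hCov _ _ _ hU').1, hUV, hF _ ι' U' hU' 0⟩)
      (fun q => hF W' ι U hU q) q) W hW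
    exact subsingleton_HU_X₁ hS W n

end Groth.Agent.Lib.Cech.Criterion
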