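import Groth.Agent.Lib.Cech.Sections
import Mathlib.CategoryTheory.Sites.SheafCohomology.MayerVietoris
import Mathlib.Topology.Sheaves.MayerVietoris

/-!
# Mayer-Vietoris for cohomology on opens
-/

universe u

open CategoryTheory CategoryTheory.Limits TopologicalSpace Opposite CategoryTheory.Abelian

namespace Groth.Agent.Lib.Cech.MV

variable {X : TopCat.{u}} (F : CohTop.Ab X) (U V : Opens X)

/-- The connecting map of Mayer-Vietoris. -/
noncomputable def δ (n₀ n₁ : ℕ) (h : n₀ + 1 = n₁) :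
    CohTop.HU F n₀ (U ⊓ V) →+ CohTop.HU F n₁ (U ⊔ V) :=
  ((Opens.mayerVietorisSquare U V).δ F n₀ n₁ h).hom

section Square

variable (S : (Opens.grothendieckTopology X).MayerVietorisSquare)

lemma sq_exists_map_eq (n : ℕ) (x : F.H' n S.X₂) (y : F.H' n S.X₃)
    (h : (F.cohomologyPresheaf n).map S.f₁₂.op x = (F.cohomologyPresheaf n).map S.f₁₃.op y) :
    ∃ z : F.H' n S.X₄, (F.cohomologyPresheaf n).map S.f₂₄.op z = x ∧
      (F.cohomologyPresheaf n).map S.f₃₄.op z = y := by
  obtain ⟨z, hz⟩ := (ShortComplex.ab_exact_iff _).mp ((S.sequence_exact F n (n + 1) rfl).exact 0)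
    ((AddCommGrpCat.biprodIsoProd _ _).inv ⟨x, y⟩)
    ((S.fromBiprod_biprodIsoProd_inv_apply F x y).trans (sub_eq_zero.mpr h))
  have hz' := (S.toBiprod_apply F z).symm.trans hz
  have := (AddCommGrpCat.biprodIsoProd _ _).addCommGroupIsoToAddEquiv.symm.injective hz'
  exact ⟨z, congrArg Prod.fst this, congrArg Prod.snd this⟩

lemma sq_exists_sub_eq (n : ℕ) (w : F.H' n S.X₁) (h : S.δ F n (n + 1) rfl w = 0) :
    ∃ (x : F.H' n S.X₂) (y : F.H' n S.X₃),
      (F.cohomologyPresheaf n).map S.f₁₂.op x - (F.cohomologyPresheaf n).map S.f₁₃.op y = w := by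
  obtain ⟨p, hp⟩ := (ShortComplex.ab_exact_iff _).mp ((S.sequence_exact F n (n + 1) rfl).exact 1) w h
  obtain ⟨⟨x, y⟩, rfl⟩ :=
    (AddCommGrpCat.biprodIsoProd _ _).addCommGroupIsoToAddEquiv.symm.surjective p
  exact ⟨x, y, (S.fromBiprod_biprodIsoProd_inv_apply F x y).symm.trans hp⟩

lemma sq_δ_sub (n : ℕ) (x : F.H' n S.X₂) (y : F.H' n S.X₃) :
    S.δ F n (n + 1) rfl ((F.cohomologyPresheaf n).map S.f₁₂.op x -
      (F.cohomologyPresheaf n).map S.f₁₃.op y) = 0 := by
  rw [← S.fromBiprod_biprodIsoProd_inv_apply F x y, ← ConcreteCategory.comp_apply, S.fromBiprod_δ]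
  rfl

lemma sq_exists_δ_eq (n : ℕ) (z : F.H' (n + 1) S.X₄)
    (hU : (F.cohomologyPresheaf (n + 1)).map S.f₂₄.op z = 0)
    (hV : (F.cohomologyPresheaf (n + 1)).map S.f₃₄.op z = 0) :
    ∃ w : F.H' n S.X₁, S.δ F n (n + 1) rfl w = z :=
  (ShortComplex.ab_exact_iff _).mp ((S.sequence_exact F n (n + 1) rfl).exact 2) z
    ((S.toBiprod_apply F z).trans
      ((congrArg _ (Prod.ext hU hV : _ = (0 : _ × _))).trans (map_zero _)))

lemma sq_map_δ (n : ℕ) (w : F.H' n S.X₁) :
    (F.cohomologyPresheaf (n + 1)).map S.f₂₄.op (S.δ F n (n + 1) rfl w) = 0 ∧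
      (F.cohomologyPresheaf (n + 1)).map S.f₃₄.op (S.δ F n (n + 1) rfl w) = 0 := by
  have h : S.toBiprod F (n + 1) (S.δ F n (n + 1) rfl w) = 0 :=
    ConcreteCategory.congr_hom (S.δ_toBiprod F n (n + 1) rfl) w
  have h0 := (S.toBiprod_apply F (S.δ F n (n + 1) rfl w)).symm.trans h
  have := (AddCommGrpCat.biprodIsoProd _ _).addCommGroupIsoToAddEquiv.symm.injective
    (h0.trans (map_zero _).symm)
  exact ⟨congrArg Prod.fst this, congrArg Prod.snd this⟩

end Square

/-- Exactness at `Hⁿ(U) ⊕ Hⁿ(V)`. -/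
theorem exists_res_eq (n : ℕ) (x : CohTop.HU F n U) (y : CohTop.HU F n V)
    (h : CohTop.res F n inf_le_left x = CohTop.res F n inf_le_right y) :
    ∃ z : CohTop.HU F n (U ⊔ V),
      CohTop.res F n le_sup_left z = x ∧ CohTop.res F n le_sup_right z = y :=
  sq_exists_map_eq F (Opens.mayerVietorisSquare U V) n x y h

/-- Exactness at `Hⁿ(U ⊓ V)`. -/
theorem exists_sub_eq (n : ℕ) (w : CohTop.HU F n (U ⊓ V)) (h : δ F U V n (n + 1) rfl w = 0) :
    ∃ x y, CohTop.res F n inf_le_left x - CohTop.res F n inf_le_right y = w :=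
  sq_exists_sub_eq F (Opens.mayerVietorisSquare U V) n w h

theorem δ_sub (n : ℕ) (x : CohTop.HU F n U) (y : CohTop.HU F n V) :
    δ F U V n (n + 1) rfl (CohTop.res F n inf_le_left x - CohTop.res F n inf_le_right y) = 0 :=
  sq_δ_sub F (Opens.mayerVietorisSquare U V) n x y

/-- Exactness at `Hⁿ⁺¹(U ⊔ V)`. -/
theorem exists_δ_eq (n : ℕ) (z : CohTop.HU F (n + 1) (U ⊔ V))
    (hU : CohTop.res F (n + 1) le_sup_left z = 0) (hV : CohTop.res F (n + 1) le_sup_right z = 0) :
    ∃ w, δ F U V n (n + 1) rfl w = z :=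
  sq_exists_δ_eq F (Opens.mayerVietorisSquare U V) n z hU hV

theorem res_δ_left (n : ℕ) (w : CohTop.HU F n (U ⊓ V)) :
    CohTop.res F (n + 1) le_sup_left (δ F U V n (n + 1) rfl w) = 0 :=
  (sq_map_δ F (Opens.mayerVietorisSquare U V) n w).1

theorem res_δ_right (n : ℕ) (w : CohTop.HU F n (U ⊓ V)) :
    CohTop.res F (n + 1) le_sup_right (δ F U V n (n + 1) rfl w) = 0 :=
  (sq_map_δ F (Opens.mayerVietorisSquare U V) n w).2

/-- Vanishing on a union. -/
theorem subsingleton_HU_sup (n : ℕ) [Subsingleton (CohTop.HU F (n + 1) U)]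
    [Subsingleton (CohTop.HU F (n + 1) V)] [Subsingleton (CohTop.HU F n (U ⊓ V))] :
    Subsingleton (CohTop.HU F (n + 1) (U ⊔ V)) := by
  refine subsingleton_of_forall_eq 0 fun z => ?_
  obtain ⟨w, rfl⟩ := exists_δ_eq F U V n z (Subsingleton.elim _ _) (Subsingleton.elim _ _)
  rw [Subsingleton.elim w 0, map_zero]

/-- Cohomology vanishes in degrees `≥ k + 1` on a union of `k + 1` opens all of whose finite
intersections are acyclic. -/
theorem subsingleton_HU_iSup_fin (k : ℕ) (U : Fin (k + 1) → Opens X)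
    (hU : ∀ (q : ℕ) (i : Fin (q + 1) → Fin (k + 1)) (n : ℕ),
      Subsingleton (CohTop.HU F (n + 1) (⨅ a, U (i a))))
    (n : ℕ) (hn : k + 1 ≤ n) : Subsingleton (CohTop.HU F n (⨆ a, U a)) := by
  induction k generalizing n with
  | zero =>
    obtain ⟨m, rfl⟩ : ∃ m, n = m + 1 := ⟨n - 1, by omega⟩
    have h := hU 0 (fun _ => 0) m
    rwa [show (⨆ a, U a) = ⨅ a : Fin 1, U ((fun _ : Fin 1 => (0 : Fin 1)) a) from
      le_antisymm (le_iInf fun _ => iSup_le fun a => by rw [Subsingleton.elim (α := Fin 1) a 0])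
        ((iInf_le _ 0).trans (le_iSup U 0))]
  | succ k ih =>
    obtain ⟨m, rfl⟩ : ∃ m, n = m + 2 := ⟨n - 2, by omega⟩
    rw [show (⨆ a, U a) = U 0 ⊔ ⨆ b : Fin (k + 1), U b.succ from
      le_antisymm (iSup_le fun a => by
          induction a using Fin.cases with
          | zero => exact le_sup_left
          | succ b => exact (le_iSup (fun b : Fin (k + 1) => U b.succ) b).trans le_sup_right)
        (sup_le (le_iSup U 0) (iSup_le fun b => le_iSup U b.succ))]
    have : Subsingleton (CohTop.HU F (m + 2) (U 0)) := by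
      have h := hU 0 (fun _ => 0) (m + 1)
      rwa [iInf_const] at h
    have : Subsingleton (CohTop.HU F (m + 2) (⨆ b : Fin (k + 1), U b.succ)) :=
      ih (fun b => U b.succ) (fun q i n => hU q (fun a => (i a).succ) n) (m + 2) (by omega)
    have : Subsingleton (CohTop.HU F (m + 1) (U 0 ⊓ ⨆ b : Fin (k + 1), U b.succ)) := by
      rw [inf_iSup_eq]
      refine ih (fun b => U 0 ⊓ U b.succ) (fun q i n => ?_) (m + 1) (by omega)
      have h := hU (q + 1) (Fin.cons 0 fun a => (i a).succ) n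
      rwa [show (⨅ a, U 0 ⊓ U (i a).succ) =
          ⨅ a, U ((Fin.cons 0 fun a => (i a).succ : Fin (q + 2) → Fin (k + 2)) a) from
        le_antisymm (le_iInf fun a => by
            induction a using Fin.cases with
            | zero => exact (iInf_le _ 0).trans inf_le_left
            | succ a => simpa using (iInf_le (fun a => U 0 ⊓ U (i a).succ) a).trans inf_le_right)
          (le_iInf fun a => le_inf (iInf_le_of_le 0 (by simp))
            (iInf_le_of_le a.succ (by simp)))]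
    exact subsingleton_HU_sup F (U 0) _ (m + 1)

end Groth.Agent.Lib.Cech.MV
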