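import Mathlib.CategoryTheory.Sites.SheafCohomology.Cech
import Mathlib.CategoryTheory.Limits.Lattice
import Mathlib.Topology.Category.TopCat.Opens
import Mathlib.Algebra.Category.Grp.Abelian
import Mathlib.Algebra.Category.Grp.Limits
import Mathlib.Algebra.Homology.ShortComplex.Ab
import Mathlib.Algebra.Homology.ShortComplex.HomologicalComplex
import Mathlib.CategoryTheory.Limits.Shapes.ConcreteCategory
import Mathlib.Topology.Sheaves.Sheaf

/-!
# An elementwise model of the Cech complex

For a presheaf of abelian groups `P` on a space and a family of opens `U`, the degree `q` term of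
`(cechComplexFunctor U).obj P` is identified with `Π i : Fin (q+1) → ι, P (⨅ a, U (i a))`, and the
differential with the alternating sum of restrictions.
-/

universe u

open CategoryTheory CategoryTheory.Limits TopologicalSpace Opposite

namespace Groth.Agent.Lib.Cech.Complex

variable {X : TopCat.{u}} {ι : Type u} (U : ι → Opens X)

/-- The intersection of the opens indexed by a tuple. -/
abbrev inter {q : ℕ} (i : Fin (q + 1) → ι) : Opens X := ⨅ a, U (i a)

lemma inter_le {q : ℕ} (i : Fin (q + 1) → ι) (a : Fin (q + 1)) : inter U i ≤ U (i a) :=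
  iInf_le (fun a => U (i a)) a

lemma inter_mono {p q : ℕ} (i : Fin (q + 1) → ι) (j : Fin (p + 1) → ι)
    (h : ∀ b, ∃ a, i a = j b) : inter U i ≤ inter U j :=
  le_iInf fun b => (Exists.elim (h b) fun a ha => (congrArg U ha) ▸ inter_le U i a)

lemma inter_le_face {q : ℕ} (i : Fin (q + 2) → ι) (j : Fin (q + 2)) :
    inter U i ≤ inter U (i ∘ j.succAbove) :=
  inter_mono U i _ fun _ => ⟨_, rfl⟩

lemma pi_eq_inter {q : ℕ} (i : Fin (q + 1) → ι) : (∏ᶜ (U ∘ i) : Opens X) = inter U i :=
  le_antisymm (le_iInf fun a => leOfHom (Pi.π (U ∘ i) a))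
    (leOfHom (Pi.lift fun a => homOfLE (inter_le U i a)))

variable (P : (Opens X)ᵒᵖ ⥤ AddCommGrpCat.{u})

/-- Restriction along an inclusion of opens. -/
noncomputable def res {V W : Opens X} (h : V ≤ W) : P.obj (op W) →+ P.obj (op V) :=
  (P.map (homOfLE h).op).hom

@[simp] lemma res_self {V : Opens X} (h : V ≤ V) (x : P.obj (op V)) : res P h x = x := by
  show (P.map (homOfLE h).op).hom x = x
  rw [show (homOfLE h).op = 𝟙 (op V) from rfl, P.map_id]
  rfl

@[simp] lemma res_res {V W W' : Opens X} (h : V ≤ W) (h' : W ≤ W') (x : P.obj (op W')) :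
    res P h (res P h' x) = res P (h.trans h') x := by
  show (P.map (homOfLE h).op).hom ((P.map (homOfLE h').op).hom x) = _
  rw [← ConcreteCategory.comp_apply, ← P.map_comp]
  rfl

lemma res_naturality {P Q : (Opens X)ᵒᵖ ⥤ AddCommGrpCat.{u}} (φ : P ⟶ Q) {V W : Opens X}
    (h : V ≤ W) (x : P.obj (op W)) :
    φ.app (op V) (res P h x) = res Q h (φ.app (op W) x) :=
  ConcreteCategory.congr_hom (φ.naturality (homOfLE h).op) x

lemma res_congr {V W W' : Opens X} (hW : W = W') (h : V ≤ W) (h' : V ≤ W')
    (s : P.obj (op W)) (s' : P.obj (op W')) (hs : HEq s s') : res P h s = res P h' s' := by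
  subst hW; rw [eq_of_heq hs]

/-- Cochains of degree `q`. -/
abbrev Cochain (q : ℕ) : Type u := ∀ i : Fin (q + 1) → ι, P.obj (op (inter U i))

lemma cochain_congr {q : ℕ} (c : Cochain U P q) {i i' : Fin (q + 1) → ι} (h : i = i')
    {V : Opens X} (hV : V ≤ inter U i) (hV' : V ≤ inter U i') :
    res P hV (c i) = res P hV' (c i') := by
  subst h; rfl

/-- The Cech differential. -/
noncomputable def dC (q : ℕ) : Cochain U P q →+ Cochain U P (q + 1) :=
  AddMonoidHom.mk' (fun c i =>
    ∑ j : Fin (q + 2), (-1 : ℤ) ^ (j : ℕ) • res P (inter_le_face U i j) (c (i ∘ j.succAbove)))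
    (fun c c' => by
      funext i
      simp only [Pi.add_apply, map_add, smul_add, Finset.sum_add_distrib])

lemma dC_apply (q : ℕ) (c : Cochain U P q) (i : Fin (q + 2) → ι) :
    dC U P q c i =
      ∑ j : Fin (q + 2), (-1 : ℤ) ^ (j : ℕ) • res P (inter_le_face U i j) (c (i ∘ j.succAbove)) :=
  rfl

/-- The Cech complex of `P`. -/
noncomputable abbrev cx : CochainComplex AddCommGrpCat.{u} ℕ :=
  (cechComplexFunctor (A := AddCommGrpCat.{u}) U).obj P

lemma hom_sum_apply {α : Type*} (s : Finset α) {A B : AddCommGrpCat.{u}} (f : α → (A ⟶ B))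
    (x : A) : (∑ j ∈ s, f j) x = ∑ j ∈ s, f j x := by
  classical
  induction s using Finset.induction with
  | empty => simp
  | insert a s ha ih => simp [Finset.sum_insert ha, ← ih]

/-- The component of a Cech cochain at a tuple. -/
noncomputable def proj (q : ℕ) (i : Fin (q + 1) → ι) :
    (cx U P).X q ⟶ P.obj (op (inter U i)) :=
  Pi.π (fun i : Fin (q + 1) → ι => P.obj (op (∏ᶜ (U ∘ i)))) i ≫
    P.map (homOfLE (pi_eq_inter U i).ge).op

lemma cx_d (q : ℕ) :
    (cx U P).d q (q + 1) = AlgebraicTopology.AlternatingCofaceMapComplex.objD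
      ((FormalCoproduct.cosimplicialObjectFunctor (FormalCoproduct.mk _ U).cech).obj P) q :=
  CochainComplex.of_d
    (fun n => ((FormalCoproduct.cosimplicialObjectFunctor (FormalCoproduct.mk _ U).cech).obj P).obj
      (SimplexCategory.mk n))
    (AlgebraicTopology.AlternatingCofaceMapComplex.objD
      ((FormalCoproduct.cosimplicialObjectFunctor (FormalCoproduct.mk _ U).cech).obj P)) q

lemma proj_d (q : ℕ) (i : Fin (q + 2) → ι) :
    (cx U P).d q (q + 1) ≫ proj U P (q + 1) i =
      ∑ j : Fin (q + 2), (-1 : ℤ) ^ (j : ℕ) •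
        (proj U P q (i ∘ j.succAbove) ≫ P.map (homOfLE (inter_le_face U i j)).op) := by
  rw [cx_d]
  simp only [AlgebraicTopology.AlternatingCofaceMapComplex.objD]
  erw [Preadditive.sum_comp]
  refine Finset.sum_congr rfl fun j _ => ?_
  erw [Preadditive.zsmul_comp]
  congr 1
  dsimp [proj, CosimplicialObject.δ]
  erw [Pi.lift_π_assoc]
  erw [Category.assoc, Category.assoc, ← P.map_comp, ← P.map_comp]
  rfl

/-- Cech cochains as functions on tuples. -/
noncomputable def equiv (q : ℕ) : (cx U P).X q ≃+ Cochain U P q :=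
  AddEquiv.ofBijective
    (AddMonoidHom.pi fun i => (proj U P q i).hom)
    ⟨fun x y h => by
      apply (Concrete.productEquiv
        (fun i : Fin (q + 1) → ι => P.obj (op (∏ᶜ (U ∘ i))))).injective
      funext i
      erw [Concrete.productEquiv_apply_apply, Concrete.productEquiv_apply_apply]
      have := congr_fun h i
      simp only [AddMonoidHom.pi_apply] at this
      change res P _ (Pi.π (fun i : Fin (q + 1) → ι => P.obj (op (∏ᶜ (U ∘ i)))) i x) =
        res P _ (Pi.π (fun i : Fin (q + 1) → ι => P.obj (op (∏ᶜ (U ∘ i)))) i y) at this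
      have h2 := congrArg (res P (pi_eq_inter U i).le) this
      simpa using h2,
    fun c => by
      let ψ : AddCommGrpCat.of (Cochain U P q) ⟶ (cx U P).X q :=
        Pi.lift fun i => AddCommGrpCat.ofHom
          ((res P (pi_eq_inter U i).le).comp (Pi.evalAddMonoidHom _ i))
      refine ⟨ψ c, funext fun i => ?_⟩
      simp only [AddMonoidHom.pi_apply]
      change res P _ (Pi.π (fun i : Fin (q + 1) → ι => P.obj (op (∏ᶜ (U ∘ i)))) i (ψ c)) = c i
      have : ψ ≫ Pi.π (fun i : Fin (q + 1) → ι => P.obj (op (∏ᶜ (U ∘ i)))) i = _ :=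
        Pi.lift_π _ _
      erw [ConcreteCategory.congr_hom this c]
      erw [res_res]
      exact res_self P _ _⟩

lemma equiv_apply (q : ℕ) (x : (cx U P).X q) (i : Fin (q + 1) → ι) :
    equiv U P q x i = proj U P q i x := rfl

lemma equiv_d (q : ℕ) (x : (cx U P).X q) :
    equiv U P (q + 1) ((cx U P).d q (q + 1) x) = dC U P q (equiv U P q x) := by
  funext i
  rw [equiv_apply, dC_apply, ← ConcreteCategory.comp_apply, proj_d]
  simp [hom_sum_apply, equiv_apply, res]

lemma dC_dC (q : ℕ) (c : Cochain U P q) : dC U P (q + 1) (dC U P q c) = 0 := by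
  obtain ⟨x, rfl⟩ := (equiv U P q).surjective c
  rw [← equiv_d, ← equiv_d, ← ConcreteCategory.comp_apply, HomologicalComplex.d_comp_d]
  simp

/-- Cech exactness in degree `q + 1`. -/
def ExactSucc (q : ℕ) : Prop :=
  ∀ c : Cochain U P (q + 1), dC U P (q + 1) c = 0 → ∃ b, dC U P q b = c

lemma exactAt_succ_iff (q : ℕ) : (cx U P).ExactAt (q + 1) ↔ ExactSucc U P q := by
  rw [HomologicalComplex.exactAt_iff' _ q (q + 1) (q + 2) (by simp) (by simp),
    ShortComplex.ab_exact_iff]
  constructor
  · intro h c hc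
    obtain ⟨x, rfl⟩ := (equiv U P (q + 1)).surjective c
    rw [← equiv_d, AddEquiv.map_eq_zero_iff] at hc
    obtain ⟨y, hy⟩ := h x hc
    exact ⟨equiv U P q y, (equiv_d U P q y).symm.trans (congrArg _ hy)⟩
  · intro h x hx
    obtain ⟨b, hb⟩ := h (equiv U P (q + 1) x)
      ((equiv_d U P (q + 1) x).symm.trans
        ((congrArg (equiv U P (q + 1 + 1)) hx).trans (map_zero _)))
    obtain ⟨y, rfl⟩ := (equiv U P q).surjective b
    exact ⟨y, (equiv U P (q + 1)).injective ((equiv_d U P q y).trans hb)⟩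

lemma isZero_homology_succ_iff (q : ℕ) :
    IsZero ((cx U P).homology (q + 1)) ↔ ExactSucc U P q := by
  rw [← exactAt_succ_iff, HomologicalComplex.exactAt_iff_isZero_homology]

lemma isZero_homology_of_forall (h : ∀ q, ExactSucc U P q) (p : ℕ) (hp : 0 < p) :
    IsZero ((cx U P).homology p) := by
  obtain ⟨q, rfl⟩ := Nat.exists_eq_succ_of_ne_zero hp.ne'
  exact (isZero_homology_succ_iff U P q).mpr (h q)

section Naturality

variable {U P} {Q : (Opens X)ᵒᵖ ⥤ AddCommGrpCat.{u}} (φ : P ⟶ Q)

/-- A morphism of presheaves on cochains. -/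
noncomputable def map (q : ℕ) : Cochain U P q →+ Cochain U Q q :=
  AddMonoidHom.mk' (fun c i => φ.app (op (inter U i)) (c i)) fun c c' => by
    funext i; simp

lemma map_apply (q : ℕ) (c : Cochain U P q) (i : Fin (q + 1) → ι) :
    map φ q c i = φ.app (op (inter U i)) (c i) := rfl

lemma map_dC (q : ℕ) (c : Cochain U P q) :
    map φ (q + 1) (dC U P q c) = dC U Q q (map φ q c) := by
  funext i
  simp only [map_apply, dC_apply, map_sum, map_zsmul, res_naturality]

lemma proj_naturality (q : ℕ) (i : Fin (q + 1) → ι) :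
    ((cechComplexFunctor U).map φ).f q ≫ proj U Q q i =
      proj U P q i ≫ φ.app (op (inter U i)) := by
  dsimp [proj]
  change Limits.Pi.map (fun i : Fin (q + 1) → ι => φ.app (op (∏ᶜ (U ∘ i)))) ≫ _ ≫ _ = _
  erw [Pi.map_π_assoc]
  erw [Category.assoc, φ.naturality]
  rfl

lemma equiv_naturality (q : ℕ) (x : (cx U P).X q) :
    equiv U Q q (((cechComplexFunctor U).map φ).f q x) = map φ q (equiv U P q x) := by
  funext i
  exact ConcreteCategory.congr_hom (proj_naturality φ q i) x

end Naturality

end Groth.Agent.Lib.Cech.Complex
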