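import Groth.Prelude.Def_CohTop
import Groth.Prelude.Def_FreeSh
import Groth.Agent.Lib.Cech.Complex
import Mathlib.Algebra.Homology.DerivedCategory.Ext.ExactSequences
import Mathlib.Algebra.Homology.DerivedCategory.Ext.EnoughInjectives
import Mathlib.Topology.Sheaves.AddCommGrpCat
import Mathlib.Topology.Sheaves.LocallySurjective
import Mathlib.CategoryTheory.Sites.EpiMono
import Mathlib.Topology.Sheaves.Flasque

/-!
# Sections of abelian sheaves: short exact sequences, gluing Cech cocycles of degree zero
-/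

universe u

open CategoryTheory CategoryTheory.Limits TopologicalSpace Opposite CategoryTheory.Abelian

namespace Groth.Agent.Lib.Cech.Sections

open Groth.Agent.Lib.Cech.Complex

variable {X : TopCat.{u}}

section ShortExact

variable {S : ShortComplex (CohTop.Ab X)} (hS : S.ShortExact)

include hS in
lemma app_injective (W : Opens X) : Function.Injective (S.f.hom.app (op W)) := by
  have := hS.mono_f
  have : Mono ((sheafToPresheaf _ _).map S.f) := inferInstance
  exact (AddCommGrpCat.mono_iff_injective _).mp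
    (inferInstance : Mono (((sheafToPresheaf _ _).map S.f).app (op W)))

include hS in
lemma app_exact (W : Opens X) (s : S.X₂.obj.obj (op W)) (h : S.g.hom.app (op W) s = 0) :
    ∃ t, S.f.hom.app (op W) t = s :=
  TopCat.Sheaf.sections_exact_of_left_exact hS.1 hS.2 s h

lemma app_zero (W : Opens X) (t : S.X₁.obj.obj (op W)) :
    S.g.hom.app (op W) (S.f.hom.app (op W) t) = 0 :=
  ConcreteCategory.congr_hom (congrArg (fun φ => φ.hom.app (op W)) S.zero) t

include hS in
/-- Sections are surjective when `H¹` of the kernel vanishes. -/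
theorem app_surjective (W : Opens X) [Subsingleton (CohTop.HU S.X₁ 1 W)] :
    Function.Surjective (S.g.hom.app (op W)) := by
  intro s
  let J := Opens.grothendieckTopology X
  obtain ⟨x₂, hx₂⟩ := Ext.covariant_sequence_exact₃ (CohCx.freeSheaf J W) hS
    (Ext.mk₀ ((CohFree.homEquivSect J W S.X₃).symm s)) (zero_add 1)
    (Subsingleton.elim (α := CohTop.HU S.X₁ 1 W) _ _)
  obtain ⟨ψ, rfl⟩ := (Ext.mk₀_bijective _ _).2 x₂
  rw [Ext.mk₀_comp_mk₀] at hx₂
  refine ⟨CohFree.homEquivSect J W S.X₂ ψ, ?_⟩
  calc S.g.hom.app (op W) (CohFree.homEquivSect J W S.X₂ ψ)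
      = CohFree.homEquivSect J W S.X₃ (ψ ≫ S.g) := rfl
    _ = s := by rw [(Ext.mk₀_bijective _ _).1 hx₂, AddEquiv.apply_symm_apply]

include hS in
/-- The cokernel of a monomorphism into an injective sheaf: degree shift for vanishing. -/
theorem subsingleton_HU_X₃ [Injective S.X₂] (W : Opens X) (n : ℕ)
    [Subsingleton (CohTop.HU S.X₁ (n + 2) W)] : Subsingleton (CohTop.HU S.X₃ (n + 1) W) := by
  refine subsingleton_of_forall_eq 0 fun x => ?_
  obtain ⟨x₂, rfl⟩ := Ext.covariant_sequence_exact₃
    (CohCx.freeSheaf (Opens.grothendieckTopology X) W) hS x (n₁ := n + 2) rfl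
    (Subsingleton.elim (α := CohTop.HU S.X₁ (n + 2) W) _ _)
  rw [Ext.eq_zero_of_injective x₂, Ext.zero_comp]
  rfl

include hS in
/-- The first step of a dimension shift: `H¹(W, S.X₁) = 0` if sections are surjective. -/
theorem subsingleton_HU_one [Injective S.X₂] (W : Opens X)
    (h : Function.Surjective (S.g.hom.app (op W))) : Subsingleton (CohTop.HU S.X₁ 1 W) := by
  refine subsingleton_of_forall_eq 0 fun x => ?_
  let J := Opens.grothendieckTopology X
  obtain ⟨x₃, rfl⟩ := Ext.covariant_sequence_exact₁ (CohCx.freeSheaf J W) hS x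
    (Ext.eq_zero_of_injective _) (zero_add 1)
  obtain ⟨φ, rfl⟩ := (Ext.mk₀_bijective _ _).2 x₃
  obtain ⟨t, ht⟩ := h (CohFree.homEquivSect J W S.X₃ φ)
  have : φ = (CohFree.homEquivSect J W S.X₂).symm t ≫ S.g :=
    (CohFree.homEquivSect J W S.X₃).injective (ht.symm.trans (by
      conv_lhs => rw [← (CohFree.homEquivSect J W S.X₂).apply_symm_apply t]
      rfl))
  rw [this, ← Ext.mk₀_comp_mk₀, Ext.comp_assoc_of_second_deg_zero, hS.comp_extClass,
    Ext.comp_zero]
  rfl

include hS in
/-- Higher steps of a dimension shift. -/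
theorem subsingleton_HU_X₁ [Injective S.X₂] (W : Opens X) (n : ℕ)
    [Subsingleton (CohTop.HU S.X₃ (n + 1) W)] : Subsingleton (CohTop.HU S.X₁ (n + 2) W) := by
  refine subsingleton_of_forall_eq 0 fun x => ?_
  obtain ⟨x₃, rfl⟩ := Ext.covariant_sequence_exact₁
    (CohCx.freeSheaf (Opens.grothendieckTopology X) W) hS x
    (Ext.eq_zero_of_injective _) (n₀ := n + 1) rfl
  rw [Subsingleton.elim (α := CohTop.HU S.X₃ (n + 1) W) x₃ 0]
  exact Ext.zero_comp _ _ _ _ _

end ShortExact

/-- The cokernel sequence of a monomorphism of sheaves. -/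
noncomputable abbrev cokerSeq {F G : CohTop.Ab X} (i : F ⟶ G) : ShortComplex (CohTop.Ab X) :=
  ShortComplex.mk i (cokernel.π i) (cokernel.condition i)

lemma cokerSeq_shortExact {F G : CohTop.Ab X} (i : F ⟶ G) [Mono i] : (cokerSeq i).ShortExact :=
  { exact := ShortComplex.exact_cokernel i }

section Gluing

variable {ι : Type u} (U : ι → Opens X)

/-- Restriction of a section to the degree zero Cech cochains. -/
noncomputable def aug (P : (Opens X)ᵒᵖ ⥤ AddCommGrpCat.{u}) {W : Opens X} (hU : ∀ i, U i ≤ W) :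
    P.obj (op W) →+ Cochain U P 0 :=
  AddMonoidHom.mk' (fun s i => res P ((inter_le U i 0).trans (hU _)) s)
    fun s t => funext fun i => map_add _ s t

lemma dC_aug (P : (Opens X)ᵒᵖ ⥤ AddCommGrpCat.{u}) {W : Opens X} (hU : ∀ i, U i ≤ W)
    (s : P.obj (op W)) : dC U P 0 (aug U P hU s) = 0 := by
  funext i
  simp [dC_apply, aug, Fin.sum_univ_two]

variable (F : CohTop.Ab X) {W : Opens X}

lemma eq_of_res_eq (hW : iSup U = W) (s t : F.obj.obj (op W))
    (h : ∀ i, res F.obj ((le_iSup U i).trans hW.le) s = res F.obj ((le_iSup U i).trans hW.le) t) :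
    s = t :=
  TopCat.Sheaf.eq_of_locally_eq' (C := AddCommGrpCat.{u}) F U W
    (fun i => homOfLE ((le_iSup U i).trans hW.le)) hW.ge s t h

lemma aug_injective (hW : iSup U = W) :
    Function.Injective (aug U F.obj fun i => (le_iSup U i).trans hW.le) := fun s t h =>
  eq_of_res_eq U F hW s t fun a => by
    have e : U a ≤ inter U (fun _ : Fin 1 => a) := le_iInf fun _ => le_rfl
    have := congrArg (res F.obj e) (congr_fun h (fun _ => a))
    simpa [aug] using this

theorem exists_aug_eq (hW : iSup U = W) (c : Cochain U F.obj 0) (hc : dC U F.obj 0 c = 0) :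
    ∃ s, aug U F.obj (fun i => (le_iSup U i).trans hW.le) s = c := by
  subst hW
  let sf : ∀ a, F.obj.obj (op (U a)) := fun a =>
    res F.obj (le_iInf fun _ => le_rfl : U a ≤ inter U (fun _ : Fin 1 => a)) (c fun _ => a)
  obtain ⟨s, hs, -⟩ := TopCat.Sheaf.existsUnique_gluing (C := AddCommGrpCat.{u}) F U sf
    (fun a b => by
      have hle : U a ⊓ U b ≤ inter U ![a, b] := le_iInf fun k => by
        fin_cases k <;> simp
      have h := congrArg (res F.obj hle) (congr_fun hc ![a, b])
      rw [dC_apply] at h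
      erw [Fin.sum_univ_two] at h
      simp only [Pi.zero_apply, map_zero, map_add, map_zsmul,
        res_res, Fin.val_zero, Fin.val_one, pow_zero, pow_one, one_smul, neg_smul, map_neg] at h
      have e0 : (![a, b] ∘ (0 : Fin 2).succAbove) = fun _ => b := by
        funext k; fin_cases k; rfl
      have e1 : (![a, b] ∘ (1 : Fin 2).succAbove) = fun _ => a := by
        funext k; fin_cases k; rfl
      rw [cochain_congr U F.obj c e0 _ (le_iInf fun _ => inf_le_right),
        cochain_congr U F.obj c e1 _ (le_iInf fun _ => inf_le_left), ← sub_eq_add_neg,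
        sub_eq_zero] at h
      show res F.obj inf_le_left (sf a) = res F.obj inf_le_right (sf b)
      simp only [sf, res_res]
      exact h.symm)
  refine ⟨s, funext fun i => ?_⟩
  show res F.obj _ s = c i
  have hsi : res F.obj (le_iSup U (i 0)) s = sf (i 0) := hs (i 0)
  rw [← res_res F.obj (inter_le U i 0) (le_iSup U (i 0)) s, hsi, res_res,
    cochain_congr U F.obj c (show (fun _ : Fin 1 => i 0) = i from funext fun k => by
      fin_cases k; rfl) _ le_rfl, res_self]

end Gluing

end Groth.Agent.Lib.Cech.Sections
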