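import Groth.Agent.Lib.Cech.Sections
import Groth.Agent.Lib.Cech.Acyclic
import Mathlib.Algebra.Homology.HomologySequence
import Mathlib.Algebra.Homology.ShortComplex.ConcreteCategory
import Mathlib.CategoryTheory.Abelian.GrothendieckCategory.EnoughInjectives

/-!
# Cech cohomology computes sheaf cohomology for coverings with acyclic intersections
-/

universe u

open CategoryTheory CategoryTheory.Limits TopologicalSpace Opposite CategoryTheory.Abelian

namespace Groth.Agent.Lib.Cech.Compare

open Groth.Agent.Lib.Cech.Complex Groth.Agent.Lib.Cech.Sections Groth.Agent.Lib.Cech.Acyclic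

variable {X : TopCat.{u}} {ι : Type u} (U : ι → Opens X)

/-- All finite intersections of members of `U` are acyclic for `F`. -/
def InterAcyclic (F : CohTop.Ab X) : Prop :=
  ∀ (q : ℕ) (i : Fin (q + 1) → ι) (n : ℕ), Subsingleton (CohTop.HU F (n + 1) (inter U i))

variable {U}

/-- The short complex of Cech complexes of a short complex of sheaves. -/
noncomputable def cxShort (U : ι → Opens X) (S : ShortComplex (CohTop.Ab X)) :
    ShortComplex (CochainComplex AddCommGrpCat.{u} ℕ) :=
  ShortComplex.mk ((cechComplexFunctor U).map S.f.hom) ((cechComplexFunctor U).map S.g.hom) (by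
    ext q x
    apply (equiv U S.X₃.obj q).injective
    rw [HomologicalComplex.comp_f, ConcreteCategory.comp_apply, equiv_naturality,
      equiv_naturality]
    erw [map_zero]
    funext i
    exact app_zero _ _)

lemma shortExact_cxShort {S : ShortComplex (CohTop.Ab X)} (hS : S.ShortExact)
    (hU : InterAcyclic U S.X₁) : (cxShort U S).ShortExact := by
  apply HomologicalComplex.shortExact_of_degreewise_shortExact
  intro q
  refine { exact := ?_, mono_f := ?_, epi_g := ?_ }
  · rw [ShortComplex.ab_exact_iff]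
    intro x hx
    have h : Complex.map S.g.hom q (equiv U S.X₂.obj q x) = 0 :=
      (equiv_naturality S.g.hom q x).symm.trans
        ((congrArg (equiv U S.X₃.obj q) hx).trans (map_zero _))
    choose t ht using fun i => app_exact hS _ (equiv U S.X₂.obj q x i) (congr_fun h i)
    obtain ⟨y, hy⟩ := (equiv U S.X₁.obj q).surjective t
    refine ⟨y, (equiv U S.X₂.obj q).injective ?_⟩
    refine (equiv_naturality S.f.hom q y).trans (funext fun i => ?_)
    rw [hy]; exact ht i
  · refine (AddCommGrpCat.mono_iff_injective _).mpr fun x y h => ?_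
    apply (equiv U S.X₁.obj q).injective
    have h2 := congrArg (equiv U S.X₂.obj q) h
    erw [equiv_naturality, equiv_naturality] at h2
    exact funext fun i => app_injective hS _ (congr_fun h2 i)
  · refine (AddCommGrpCat.epi_iff_surjective _).mpr fun z => ?_
    have : ∀ i : Fin (q + 1) → ι, ∃ t, S.g.hom.app (op (inter U i)) t = equiv U S.X₃.obj q z i :=
      fun i => by
        have := hU q i 0
        exact app_surjective hS _ _
    choose t ht using this
    obtain ⟨y, hy⟩ := (equiv U S.X₂.obj q).surjective t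
    refine ⟨y, (equiv U S.X₃.obj q).injective ?_⟩
    refine (equiv_naturality S.g.hom q y).trans (funext fun i => ?_)
    rw [hy]; exact ht i

lemma interAcyclic_X₃ {S : ShortComplex (CohTop.Ab X)} (hS : S.ShortExact) [Injective S.X₂]
    (hU : InterAcyclic U S.X₁) : InterAcyclic U S.X₃ := fun q i n => by
  have := hU q i (n + 1)
  exact subsingleton_HU_X₃ hS _ n

section DegreeZero

variable (U) (F : (Opens X)ᵒᵖ ⥤ AddCommGrpCat.{u})

/-- Restriction from `⊤` as a map to the degree zero term of the Cech complex. -/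
noncomputable def augX : F.obj (op ⊤) ⟶ (cx U F).X 0 :=
  AddCommGrpCat.ofHom ((equiv U F 0).symm.toAddMonoidHom.comp (aug U F fun _ => le_top))

lemma augX_d : augX U F ≫ (cx U F).d 0 1 = 0 := by
  ext s
  apply (equiv U F 1).injective
  rw [ConcreteCategory.comp_apply, equiv_d]
  erw [map_zero, AddEquiv.apply_symm_apply]
  exact dC_aug U F _ s

/-- The map `F(⊤) → Ȟ⁰(U, F)`. -/
noncomputable def toH0 : F.obj (op ⊤) ⟶ (cx U F).homology 0 :=
  (cx U F).liftCycles (augX U F) 1 (by simp) (augX_d U F) ≫ (cx U F).homologyπ 0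

lemma toH0_naturality {G : (Opens X)ᵒᵖ ⥤ AddCommGrpCat.{u}} (φ : F ⟶ G) :
    φ.app (op ⊤) ≫ toH0 U G =
      toH0 U F ≫ HomologicalComplex.homologyMap ((cechComplexFunctor U).map φ) 0 := by
  have : φ.app (op ⊤) ≫ augX U G = augX U F ≫ ((cechComplexFunctor U).map φ).f 0 := by
    ext s
    apply (equiv U G 0).injective
    rw [ConcreteCategory.comp_apply, ConcreteCategory.comp_apply, equiv_naturality]
    erw [AddEquiv.apply_symm_apply, AddEquiv.apply_symm_apply]
    funext i
    exact (res_naturality φ _ s).symm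
  rw [toH0, toH0, Category.assoc, HomologicalComplex.homologyπ_naturality, ← Category.assoc,
    ← Category.assoc]
  congr 1
  rw [← cancel_mono ((cx U G).iCycles 0)]
  simp [this]

lemma toH0_bijective (hcov : iSup U = ⊤) (F : CohTop.Ab X) :
    Function.Bijective (toH0 U F.obj) := by
  have h1 : Function.Bijective ((cx U F.obj).homologyπ 0) :=
    ConcreteCategory.bijective_of_isIso (cx U F.obj).isoHomologyπ₀.hom
  refine h1.comp (f := (cx U F.obj).liftCycles (augX U F.obj) 1 (by simp) (augX_d U F.obj))
    ⟨fun s t h => ?_, fun z => ?_⟩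
  · have h2 := congrArg ((cx U F.obj).iCycles 0) h
    rw [← ConcreteCategory.comp_apply, ← ConcreteCategory.comp_apply,
      HomologicalComplex.liftCycles_i] at h2
    exact aug_injective U F hcov ((equiv U F.obj 0).symm.injective h2)
  · have hz : dC U F.obj 0 (equiv U F.obj 0 ((cx U F.obj).iCycles 0 z)) = 0 := by
      rw [← equiv_d, ← ConcreteCategory.comp_apply, HomologicalComplex.iCycles_d]
      simp
    obtain ⟨s, hs⟩ := exists_aug_eq U F hcov _ hz
    refine ⟨s, (AddCommGrpCat.mono_iff_injective ((cx U F.obj).iCycles 0)).mp inferInstance ?_⟩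
    rw [← ConcreteCategory.comp_apply, HomologicalComplex.liftCycles_i]
    exact (equiv U F.obj 0).injective
      (((equiv U F.obj 0).apply_symm_apply _).trans hs)

end DegreeZero

/-- Two surjections with the same kernel have isomorphic targets. -/
noncomputable def equivOfKerEq {G A B : Type u} [AddCommGroup G] [AddCommGroup A] [AddCommGroup B]
    (φ : G →+ A) (ψ : G →+ B) (hφ : Function.Surjective φ) (hψ : Function.Surjective ψ)
    (h : φ.ker = ψ.ker) : A ≃+ B :=
  (QuotientAddGroup.quotientKerEquivOfSurjective φ hφ).symm.trans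
    ((QuotientAddGroup.quotientAddEquivOfEq h).trans
      (QuotientAddGroup.quotientKerEquivOfSurjective ψ hψ))

/-- Cech cohomology of a covering all of whose finite intersections are acyclic computes sheaf
cohomology. -/
theorem nonempty_cechH_addEquiv_H (hcov : iSup U = ⊤) (p : ℕ) (F : CohTop.Ab X)
    (hF : InterAcyclic U F) : Nonempty (CohTop.cechH F.obj U p ≃+ CohTop.H F p) := by
  have hT : IsTerminal (⊤ : Opens X) := isTerminalTop
  let e0 : ∀ G : CohTop.Ab X, CohTop.cechH G.obj U 0 ≃+ CohTop.H G 0 := fun G =>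
    (AddEquiv.ofBijective (toH0 U G.obj).hom (toH0_bijective U hcov G)).symm.trans
      (Sheaf.H.equiv₀ G hT).symm
  induction p generalizing F with
  | zero => exact ⟨e0 F⟩
  | succ p ih =>
    let S := cokerSeq (Injective.ι F)
    have hS : S.ShortExact := cokerSeq_shortExact _
    have : Injective S.X₂ := inferInstanceAs (Injective (Injective.under F))
    have hC := shortExact_cxShort hS hF
    have hI : ∀ q, IsZero ((cxShort U S).X₂.homology (q + 1)) := fun q =>
      (isZero_homology_succ_iff U S.X₂.obj q).mpr (exactSucc_of_injective U S.X₂ q)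
    let C := (constantSheaf (Opens.grothendieckTopology X) AddCommGrpCat.{u}).obj
      (AddCommGrpCat.of (ULift ℤ))
    cases p with
    | succ q =>
      obtain ⟨e⟩ := ih S.X₃ (interAcyclic_X₃ hS hF)
      let d1 := hC.δIso (q + 1) (q + 2) (by simp) (hI q) (hI (q + 1))
      let δ : CohTop.H S.X₃ (q + 1) →+ CohTop.H S.X₁ (q + 2) :=
        hS.extClass.postcomp C rfl
      have hδ : Function.Bijective δ := by
        refine ⟨(injective_iff_map_eq_zero _).mpr fun x hx => ?_, fun y => ?_⟩
        · obtain ⟨x₂, rfl⟩ := Ext.covariant_sequence_exact₃ C hS x rfl hx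
          rw [Ext.eq_zero_of_injective x₂, Ext.zero_comp]
        · obtain ⟨x₃, hx₃⟩ := Ext.covariant_sequence_exact₁ C hS y
            (Ext.eq_zero_of_injective _) (n₀ := q + 1) rfl
          exact ⟨x₃, hx₃⟩
      exact ⟨(d1.addCommGroupIsoToAddEquiv).symm.trans (e.trans (AddEquiv.ofBijective δ hδ))⟩
    | zero =>
      let φ : S.X₃.obj.obj (op ⊤) →+ CohTop.cechH F.obj U 1 :=
        (hC.δ 0 1 (by simp)).hom.comp (toH0 U S.X₃.obj).hom
      let δ : CohTop.H S.X₃ 0 →+ CohTop.H S.X₁ 1 := hS.extClass.postcomp C rfl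
      let ψ : S.X₃.obj.obj (op ⊤) →+ CohTop.H F 1 :=
        δ.comp (Sheaf.H.equiv₀ S.X₃ hT).symm.toAddMonoidHom
      have hφs : Function.Surjective φ := fun y => by
        obtain ⟨z, hz⟩ := (ShortComplex.ab_exact_iff _).mp (hC.homology_exact₁ 0 1 (by simp)) y
          (by
            have := AddCommGrpCat.subsingleton_of_isZero (hI 0)
            exact Subsingleton.elim (α := ((cxShort U S).X₂.homology 1 : AddCommGrpCat.{u})) _ _)
        obtain ⟨g, rfl⟩ := (toH0_bijective U hcov S.X₃).2 z
        exact ⟨g, hz⟩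
      have hψs : Function.Surjective ψ := fun y => by
        obtain ⟨x₃, hx₃⟩ := Ext.covariant_sequence_exact₁ C hS y
          (Ext.eq_zero_of_injective _) (zero_add 1)
        exact ⟨Sheaf.H.equiv₀ S.X₃ hT x₃, (congrArg δ (AddEquiv.symm_apply_apply _ _)).trans hx₃⟩
      refine ⟨equivOfKerEq φ ψ hφs hψs (AddSubgroup.ext fun g => ?_)⟩
      rw [AddMonoidHom.mem_ker, AddMonoidHom.mem_ker]
      have key : ∀ g, φ g = 0 ↔ ∃ i, S.g.hom.app (op ⊤) i = g := fun g => by
        constructor
        · intro hg
          obtain ⟨z, hz⟩ :=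
            (ShortComplex.ab_exact_iff _).mp (hC.homology_exact₃ 0 1 (by simp)) _ hg
          obtain ⟨i, rfl⟩ := (toH0_bijective U hcov S.X₂).2 z
          exact ⟨i, (toH0_bijective U hcov S.X₃).1
            ((ConcreteCategory.congr_hom (toH0_naturality U S.X₂.obj S.g.hom) i).trans hz)⟩
        · rintro ⟨i, rfl⟩
          show hC.δ 0 1 _ (toH0 U S.X₃.obj (S.g.hom.app (op ⊤) i)) = 0
          rw [← ConcreteCategory.comp_apply (S.g.hom.app (op ⊤)), toH0_naturality,
            ConcreteCategory.comp_apply]
          exact ConcreteCategory.congr_hom (hC.comp_δ 0 1 (by simp)) _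
      rw [key g]
      constructor
      · rintro ⟨i, rfl⟩
        show δ ((Sheaf.H.equiv₀ S.X₃ hT).symm (S.g.hom.app (op ⊤) i)) = 0
        rw [← Sheaf.H.equiv₀_symm_naturality (f := S.g) (hT := hT) i]
        show Ext.comp _ hS.extClass (zero_add 1) = 0
        rw [Sheaf.H.map_apply, Ext.comp_assoc_of_second_deg_zero, hS.comp_extClass, Ext.comp_zero]
      · intro hg
        obtain ⟨x₂, hx₂⟩ := Ext.covariant_sequence_exact₃ C hS _ (zero_add 1) hg
        refine ⟨Sheaf.H.equiv₀ S.X₂ hT x₂, ?_⟩
        rw [Sheaf.H.equiv₀_naturality (f := S.g) (hT := hT) x₂]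
        apply (Sheaf.H.equiv₀ S.X₃ hT).symm.injective
        rw [AddEquiv.symm_apply_apply]
        exact hx₂

end Groth.Agent.Lib.Cech.Compare
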