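import Groth.Agent.Lib.Cech.Complex
import Mathlib.LinearAlgebra.Finsupp.Supported
import Mathlib.Data.Fintype.EquivFin
import Mathlib.Algebra.Category.Grp.Zero

/-!
# The Cech complex of a cover by `n` opens is exact in degrees `≥ n`

The ordered complex retracts onto the strictly increasing tuples, naturally in the set of values.
-/

set_option linter.style.haveILetI false
set_option autoImplicit false

universe u

open CategoryTheory CategoryTheory.Limits TopologicalSpace Opposite

namespace Groth.Agent.Lib.Cech.CardVanish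

open Complex

variable {ι : Type u}

/-- Chains on tuples. -/
abbrev Ch (ι : Type u) (q : ℕ) : Type u := (Fin (q + 1) → ι) →₀ ℤ

/-- The boundary. -/
noncomputable def bd (q : ℕ) : Ch ι (q + 1) →ₗ[ℤ] Ch ι q :=
  Finsupp.linearCombination ℤ fun t =>
    ∑ j : Fin (q + 2), (-1 : ℤ) ^ (j : ℕ) • Finsupp.single (t ∘ j.succAbove) 1

lemma bd_single (q : ℕ) (t : Fin (q + 2) → ι) : bd q (Finsupp.single t 1) =
    ∑ j : Fin (q + 2), (-1 : ℤ) ^ (j : ℕ) • Finsupp.single (t ∘ j.succAbove) 1 := by
  simp [bd]

/-- Images of chains supported on given tuples. -/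
lemma map_mem {q : ℕ} {M : Type*} [AddCommGroup M] {A : Set (Fin (q + 1) → ι)}
    (F : Ch ι q →ₗ[ℤ] M) (N : Submodule ℤ M) (h : ∀ s ∈ A, F (Finsupp.single s 1) ∈ N)
    {z : Ch ι q} (hz : z ∈ Finsupp.supported ℤ ℤ A) : F z ∈ N := by
  rw [← Finsupp.sum_single z, map_finsuppSum]
  rw [Finsupp.sum]
  refine Submodule.sum_mem _ fun s hs => ?_
  have hsA : s ∈ A := (Finsupp.mem_supported ℤ z).1 hz hs
  rw [show Finsupp.single s (z s) = z s • Finsupp.single s 1 by simp, map_smul]
  exact N.smul_mem _ (h s hsA)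

lemma map_eq {q : ℕ} {M : Type*} [AddCommGroup M] {A : Set (Fin (q + 1) → ι)}
    (F G : Ch ι q →ₗ[ℤ] M) (h : ∀ s ∈ A, F (Finsupp.single s 1) = G (Finsupp.single s 1))
    {z : Ch ι q} (hz : z ∈ Finsupp.supported ℤ ℤ A) : F z = G z :=
  sub_eq_zero.1 ((Submodule.mem_bot ℤ).1
    (map_mem (F - G) ⊥ (fun s hs => (Submodule.mem_bot ℤ).2 (sub_eq_zero.2 (h s hs))) hz))

/-- Tuples with values among those of `t`. -/
def In {p : ℕ} (q : ℕ) (t : Fin (p + 1) → ι) : Set (Fin (q + 1) → ι) := {s | ∀ b, ∃ a, t a = s b}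

lemma single_mem {q : ℕ} {A : Set (Fin (q + 1) → ι)} {s : Fin (q + 1) → ι} (hs : s ∈ A) (k : ℤ) :
    Finsupp.single s k ∈ Finsupp.supported ℤ ℤ A :=
  Finsupp.single_mem_supported ℤ k hs

/-- Prepending a value. -/
noncomputable def cone (q : ℕ) (a : ι) : Ch ι q →ₗ[ℤ] Ch ι (q + 1) :=
  Finsupp.linearCombination ℤ fun s => Finsupp.single (Fin.cons a s) 1

lemma cone_single (q : ℕ) (a : ι) (s : Fin (q + 1) → ι) :
    cone q a (Finsupp.single s 1) = Finsupp.single (Fin.cons a s) 1 := by simp [cone]

lemma cons_comp_succ {q : ℕ} (a : ι) (s : Fin (q + 2) → ι) (j : Fin (q + 2)) :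
    (Fin.cons a s : Fin (q + 3) → ι) ∘ j.succ.succAbove = Fin.cons a (s ∘ j.succAbove) := by
  funext i
  cases i using Fin.cases with
  | zero => simp
  | succ i => simp

lemma cons_comp_zero {q : ℕ} (a : ι) (s : Fin (q + 1) → ι) :
    (Fin.cons a s : Fin (q + 2) → ι) ∘ (0 : Fin (q + 2)).succAbove = s := by
  funext i; simp

lemma bd_cons (q : ℕ) (a : ι) (s : Fin (q + 2) → ι) :
    bd (q + 1) (Finsupp.single (Fin.cons a s) 1) =
      Finsupp.single s 1 - cone q a (bd q (Finsupp.single s 1)) := by
  rw [bd_single, Fin.sum_univ_succ, cons_comp_zero, bd_single, map_sum, sub_eq_add_neg,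
    ← Finset.sum_neg_distrib]
  congr 1
  · simp
  refine Finset.sum_congr rfl fun j _ => ?_
  rw [cons_comp_succ, map_smul, cone_single, Fin.val_succ, pow_succ, ← neg_smul]
  simp

lemma bd_cone (q : ℕ) (a : ι) (z : Ch ι (q + 1)) :
    bd (q + 1) (cone (q + 1) a z) = z - cone q a (bd q z) := by
  have h : bd (q + 1) ∘ₗ cone (q + 1) a = LinearMap.id - cone q a ∘ₗ bd q := by
    refine Finsupp.lhom_ext fun s k => ?_
    rw [show Finsupp.single s k = k • Finsupp.single s (1 : ℤ) by simp, map_smul, map_smul]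
    congr 1
    simp only [LinearMap.comp_apply, LinearMap.sub_apply, LinearMap.id_apply]
    rw [cone_single, bd_cons]
  exact LinearMap.congr_fun h z

lemma cone_mem {p q : ℕ} {t : Fin (p + 1) → ι} (a : Fin (p + 1)) {z : Ch ι q}
    (hz : z ∈ Finsupp.supported ℤ ℤ (In q t)) :
    cone q (t a) z ∈ Finsupp.supported ℤ ℤ (In (q + 1) t) :=
  map_mem _ _ (fun s hs => by
    rw [cone_single]
    refine single_mem (A := In (q + 1) t) ?_ _
    intro b
    cases b using Fin.cases with
    | zero => exact ⟨a, by simp⟩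
    | succ b => simpa using hs b) hz

lemma In_face {q : ℕ} (t : Fin (q + 2) → ι) (j : Fin (q + 2)) : t ∘ j.succAbove ∈ In q t :=
  fun b => ⟨_, rfl⟩

lemma In_trans {p q r : ℕ} {t : Fin (p + 1) → ι} {s : Fin (q + 1) → ι} (hs : s ∈ In q t)
    {v : Fin (r + 1) → ι} (hv : v ∈ In r s) : v ∈ In r t := fun b => by
  obtain ⟨a, ha⟩ := hv b
  obtain ⟨c, hc⟩ := hs a
  exact ⟨c, hc.trans ha⟩

lemma bd_mem_faces {q : ℕ} (t : Fin (q + 2) → ι) :
    bd q (Finsupp.single t 1) ∈ Finsupp.supported ℤ ℤ (In q t) := by
  rw [bd_single]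
  exact Submodule.sum_mem _ fun j _ => Submodule.smul_mem _ _ (single_mem (In_face t j) 1)

section Order

variable [LinearOrder ι]

/-- Prepending a value smaller than all others. -/
noncomputable def scone (q : ℕ) (m : ι) : Ch ι q →ₗ[ℤ] Ch ι (q + 1) :=
  Finsupp.linearCombination ℤ fun s =>
    if m < s 0 then Finsupp.single (Fin.cons m s) 1 else 0

lemma scone_single (q : ℕ) (m : ι) (s : Fin (q + 1) → ι) :
    scone q m (Finsupp.single s 1) =
      if m < s 0 then Finsupp.single (Fin.cons m s) 1 else 0 := by simp [scone]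

/-- Strictly increasing tuples starting at `≥ m`. -/
def Str (q : ℕ) (m : ι) : Set (Fin (q + 1) → ι) := {s | StrictMono s ∧ m ≤ s 0}

lemma bd_scone (q : ℕ) (m : ι) {z : Ch ι (q + 1)}
    (hz : z ∈ Finsupp.supported ℤ ℤ (Str (q + 1) m)) :
    bd (q + 1) (scone (q + 1) m z) = z - scone q m (bd q z) := by
  refine map_eq (bd (q + 1) ∘ₗ scone (q + 1) m) (LinearMap.id - scone q m ∘ₗ bd q) (fun s hs => ?_) hz
  simp only [LinearMap.comp_apply, LinearMap.sub_apply, LinearMap.id_apply]
  obtain ⟨hs, hms⟩ := hs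
  rw [scone_single, bd_single q s, map_sum]
  simp only [map_smul, scone_single]
  rcases eq_or_lt_of_le hms with h | h
  · rw [if_neg (by rw [h]; exact lt_irrefl _), map_zero, Fin.sum_univ_succ, Finset.sum_eq_zero]
    · rw [if_pos (by simpa [h] using hs (Fin.succ_pos (0 : Fin (q + 1))))]
      have : Fin.cons m (s ∘ (0 : Fin (q + 2)).succAbove) = s := by
        funext i
        cases i using Fin.cases with
        | zero => simpa using h
        | succ i => simp
      simp only [Fin.succAbove_zero] at this ⊢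
      simp [this]
    · intro j _
      rw [if_neg, smul_zero]
      rw [h]
      simp
  · rw [if_pos h, bd_cons, bd_single, map_sum]
    simp only [map_smul, cone_single]
    congr 1
    refine Finset.sum_congr rfl fun j _ => ?_
    rw [if_pos (show m < (s ∘ j.succAbove) 0 from lt_of_lt_of_le h (hs.monotone (Fin.zero_le _)))]

/-- The least value of a tuple. -/
noncomputable def least {q : ℕ} (t : Fin (q + 1) → ι) : ι :=
  Finset.univ.inf' Finset.univ_nonempty t

/-- The projection to strictly increasing tuples. -/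
noncomputable def psi : ∀ q : ℕ, Ch ι q →ₗ[ℤ] Ch ι q
  | 0 => LinearMap.id
  | q + 1 => Finsupp.linearCombination ℤ fun t => scone q (least t) (psi q (bd q (Finsupp.single t 1)))

lemma psi_single (q : ℕ) (t : Fin (q + 2) → ι) : psi (q + 1) (Finsupp.single t 1) =
    scone q (least t) (psi q (bd q (Finsupp.single t 1))) := by simp [psi]

lemma psi_mem : ∀ (q : ℕ) (t : Fin (q + 1) → ι),
    psi q (Finsupp.single t 1) ∈ Finsupp.supported ℤ ℤ (In q t ∩ {s | StrictMono s}) := by
  intro q
  induction q with
  | zero => exact fun t => single_mem (A := In 0 t ∩ {s | StrictMono s}) ⟨fun b => ⟨b, rfl⟩, fun a b hab => absurd hab (by omega)⟩ 1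
  | succ q ih =>
    intro t
    rw [psi_single]
    refine map_mem (A := In q t ∩ {s | StrictMono s}) (scone q (least t)) _ (fun s hs => ?_) ?_
    · rw [scone_single]
      split
      · next h =>
        refine single_mem (A := In (q + 1) t ∩ {s | StrictMono s}) ⟨fun b => ?_, ?_⟩ 1
        · cases b using Fin.cases with
          | zero =>
            obtain ⟨a, -, ha⟩ := Finset.exists_mem_eq_inf' Finset.univ_nonempty t
            exact ⟨a, by simp [least, ha]⟩
          | succ b => simpa using hs.1 b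
        · refine Fin.strictMono_iff_lt_succ.2 fun i => ?_
          cases i using Fin.cases with
          | zero => simpa using h
          | succ i =>
            rw [← Fin.succ_castSucc, Fin.cons_succ, Fin.cons_succ]
            exact hs.2 Fin.castSucc_lt_succ
      · exact zero_mem _
    · refine map_mem (A := In q t) (psi q) _ (fun s hs => ?_) (bd_mem_faces t)
      exact Finsupp.supported_mono (fun v hv => by exact ⟨In_trans hs hv.1, hv.2⟩) (ih s)

lemma least_le {p q : ℕ} {t : Fin (p + 1) → ι} {s : Fin (q + 1) → ι} (hs : s ∈ In q t) :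
    least t ≤ s 0 := by
  obtain ⟨a, ha⟩ := hs 0
  exact ha ▸ Finset.inf'_le t (Finset.mem_univ a)

lemma bd_psi (bdbd : ∀ (q : ℕ) (z : Ch ι (q + 2)), bd q (bd (q + 1) z) = 0) :
    ∀ (q : ℕ) (z : Ch ι (q + 1)), bd q (psi (q + 1) z) = psi q (bd q z) := by
  intro q
  induction q with
  | zero =>
    intro z
    have h : bd 0 ∘ₗ psi 1 = psi 0 ∘ₗ bd (ι := ι) 0 := by
      refine Finsupp.lhom_ext fun t k => ?_
      rw [show Finsupp.single t k = k • Finsupp.single t (1 : ℤ) by simp, map_smul, map_smul]
      congr 1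
      simp only [LinearMap.comp_apply]
      rw [psi_single]
      simp only [psi, LinearMap.id_apply]
      rw [bd_single, map_sum, map_sum]
      simp only [map_smul, scone_single]
      have key : ∀ j : Fin 2, bd 0 (if least t < (t ∘ j.succAbove) 0 then
          Finsupp.single (Fin.cons (least t) (t ∘ j.succAbove)) (1 : ℤ) else 0) =
          Finsupp.single (t ∘ j.succAbove) 1 - Finsupp.single (fun _ => least t) 1 := by
        intro j
        split
        · rw [bd_single, Fin.sum_univ_two, cons_comp_zero]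
          have : (Fin.cons (least t) (t ∘ j.succAbove) : Fin 2 → ι) ∘ (1 : Fin 2).succAbove =
              fun _ => least t := by
            funext i
            fin_cases i
            rfl
          rw [this]
          simp [sub_eq_add_neg]
        · next h =>
          have h' : (t ∘ j.succAbove) 0 = least t :=
            le_antisymm (not_lt.1 h) (least_le (In_face t j))
          have : t ∘ j.succAbove = fun _ => least t := by
            funext i
            fin_cases i
            exact h'
          rw [map_zero, this, sub_self]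
      simp only [key, Fin.sum_univ_two]
      simp [sub_eq_add_neg]
      try abel
    exact LinearMap.congr_fun h z
  | succ q ih =>
    intro z
    have h : bd (q + 1) ∘ₗ psi (q + 2) = psi (q + 1) ∘ₗ bd (ι := ι) (q + 1) := by
      refine Finsupp.lhom_ext fun t k => ?_
      rw [show Finsupp.single t k = k • Finsupp.single t (1 : ℤ) by simp, map_smul, map_smul]
      congr 1
      simp only [LinearMap.comp_apply]
      rw [psi_single, bd_scone]
      · rw [ih, bdbd, map_zero, map_zero, sub_zero]
      · refine map_mem (A := In (q + 1) t) (psi (q + 1)) _ (fun s hs => ?_) (bd_mem_faces t)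
        exact Finsupp.supported_mono
          (fun v hv => by exact ⟨hv.2, least_le (In_trans hs hv.1)⟩) (psi_mem (q + 1) s)
    exact LinearMap.congr_fun h z

/-- The homotopy. -/
noncomputable def htp : ∀ q : ℕ, Ch ι q →ₗ[ℤ] Ch ι (q + 1)
  | 0 => 0
  | q + 1 => Finsupp.linearCombination ℤ fun t => cone (q + 1) (t 0)
      (Finsupp.single t 1 - psi (q + 1) (Finsupp.single t 1) - htp q (bd q (Finsupp.single t 1)))

lemma htp_single (q : ℕ) (t : Fin (q + 2) → ι) : htp (q + 1) (Finsupp.single t 1) =
    cone (q + 1) (t 0)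
      (Finsupp.single t 1 - psi (q + 1) (Finsupp.single t 1) - htp q (bd q (Finsupp.single t 1))) := by
  simp [htp]

lemma htp_mem : ∀ (q : ℕ) (t : Fin (q + 1) → ι),
    htp q (Finsupp.single t 1) ∈ Finsupp.supported ℤ ℤ (In (q + 1) t) := by
  intro q
  induction q with
  | zero => exact fun t => zero_mem _
  | succ q ih =>
    intro t
    rw [htp_single]
    refine cone_mem 0 (sub_mem (sub_mem (single_mem (A := In (q + 1) t) (fun b => ⟨b, rfl⟩) 1) ?_) ?_)
    · exact Finsupp.supported_mono Set.inter_subset_left (psi_mem (q + 1) t)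
    · refine map_mem (A := In q t) (htp q) _ (fun s hs => ?_) (bd_mem_faces t)
      exact Finsupp.supported_mono (fun v hv => by exact In_trans hs hv) (ih s)

lemma bd_htp (bdbd : ∀ (q : ℕ) (z : Ch ι (q + 2)), bd q (bd (q + 1) z) = 0) :
    ∀ (q : ℕ) (z : Ch ι (q + 1)),
      bd (q + 1) (htp (q + 1) z) + htp q (bd q z) = z - psi (q + 1) z := by
  intro q
  induction q with
  | zero =>
    intro z
    have h : bd 1 ∘ₗ htp 1 + htp 0 ∘ₗ bd (ι := ι) 0 = LinearMap.id - psi 1 := by
      refine Finsupp.lhom_ext fun t k => ?_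
      rw [show Finsupp.single t k = k • Finsupp.single t (1 : ℤ) by simp, map_smul, map_smul]
      congr 1
      simp only [LinearMap.add_apply, LinearMap.comp_apply, LinearMap.sub_apply, LinearMap.id_apply]
      have h0 : bd 0 (Finsupp.single t 1 - psi 1 (Finsupp.single t 1)) = 0 := by
        rw [map_sub, bd_psi bdbd]
        simp [psi]
      rw [htp_single]
      simp only [htp, LinearMap.zero_apply, sub_zero, add_zero]
      rw [bd_cone, h0, map_zero, sub_zero]
    exact LinearMap.congr_fun h z
  | succ q ih =>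
    intro z
    have h : bd (q + 2) ∘ₗ htp (q + 2) + htp (q + 1) ∘ₗ bd (ι := ι) (q + 1) =
        LinearMap.id - psi (q + 2) := by
      refine Finsupp.lhom_ext fun t k => ?_
      rw [show Finsupp.single t k = k • Finsupp.single t (1 : ℤ) by simp, map_smul, map_smul]
      congr 1
      simp only [LinearMap.add_apply, LinearMap.comp_apply, LinearMap.sub_apply, LinearMap.id_apply]
      have hi := ih (bd (q + 1) (Finsupp.single t 1))
      rw [bdbd, map_zero, add_zero, ← bd_psi bdbd] at hi
      have h0 : bd (q + 1) (Finsupp.single t 1 - psi (q + 2) (Finsupp.single t 1) -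
          htp (q + 1) (bd (q + 1) (Finsupp.single t 1))) = 0 := by
        rw [map_sub, map_sub, hi, sub_self]
      rw [htp_single, bd_cone, h0, map_zero, sub_zero, sub_add_cancel]
    exact LinearMap.congr_fun h z

end Order

section Pairing

variable {X : TopCat.{u}} (U : ι → Opens X) (P : (Opens X)ᵒᵖ ⥤ AddCommGrpCat.{u})

open Classical in
/-- Evaluation of a cochain on chains, at a tuple. -/
noncomputable def ev {p q : ℕ} (t : Fin (p + 1) → ι) (c : Cochain U P q) :
    Ch ι q →ₗ[ℤ] (P.obj (op (inter U t)) : Type u) :=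
  Finsupp.linearCombination ℤ fun s =>
    if h : inter U t ≤ inter U s then res P h (c s) else 0

lemma ev_single {p q : ℕ} (t : Fin (p + 1) → ι) (c : Cochain U P q) {s : Fin (q + 1) → ι}
    (hs : s ∈ In q t) : ev U P t c (Finsupp.single s 1) = res P (inter_mono U t s hs) (c s) := by
  simp [ev, dif_pos (inter_mono U t s hs)]

lemma ev_bd {p q : ℕ} (t : Fin (p + 1) → ι) (c : Cochain U P q) {z : Ch ι (q + 1)}
    (hz : z ∈ Finsupp.supported ℤ ℤ (In (q + 1) t)) :
    ev U P t (dC U P q c) z = ev U P t c (bd q z) := by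
  refine map_eq _ (ev U P t c ∘ₗ bd q) (fun s hs => ?_) hz
  rw [LinearMap.comp_apply, bd_single, map_sum, ev_single U P t _ hs, dC_apply, map_sum]
  refine Finset.sum_congr rfl fun j _ => ?_
  rw [map_zsmul, map_zsmul, ev_single U P t c (In_trans hs (In_face s j)), res_res]

lemma res_ev {p r q : ℕ} (t : Fin (p + 1) → ι) {t' : Fin (r + 1) → ι} (ht : t' ∈ In r t)
    (c : Cochain U P q) {z : Ch ι q} (hz : z ∈ Finsupp.supported ℤ ℤ (In q t')) :
    res P (inter_mono U t t' ht) (ev U P t' c z) = ev U P t c z := by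
  refine map_eq ((res P (inter_mono U t t' ht)).toIntLinearMap ∘ₗ ev U P t' c) _ (fun s hs => ?_) hz
  rw [LinearMap.comp_apply, AddMonoidHom.coe_toIntLinearMap, ev_single U P t' c hs,
    ev_single U P t c (In_trans ht hs), res_res]

lemma ev_eq_zero_of_dC {p q : ℕ} (t : Fin (p + 1) → ι) (z : Ch ι q) :
    ev U P t (0 : Cochain U P q) z = 0 := by
  have : ev U P t (0 : Cochain U P q) = 0 := by
    refine Finsupp.lhom_ext fun s k => ?_
    simp [ev]
  rw [this]
  rfl

lemma bd_bd (q : ℕ) (z : Ch ι (q + 2)) : bd q (bd (q + 1) z) = 0 := by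
  let Y : TopCat.{u} := TopCat.of PUnit.{u + 1}
  let T : ι → Opens Y := fun _ => ⊤
  let Z : (Opens Y)ᵒᵖ ⥤ AddCommGrpCat.{u} := (Functor.const _).obj (AddCommGrpCat.of (ULift.{u} ℤ))
  suffices h : ∀ t : Fin (q + 3) → ι, bd q (bd (q + 1) (Finsupp.single t (1 : ℤ))) = 0 by
    have h' : bd q ∘ₗ bd (ι := ι) (q + 1) = 0 := by
      refine Finsupp.lhom_ext fun t k => ?_
      rw [show Finsupp.single t k = k • Finsupp.single t (1 : ℤ) by simp, map_smul, map_smul,
        LinearMap.comp_apply, h t]
      simp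
    exact LinearMap.congr_fun h' z
  intro t
  ext s
  let δ : Cochain T Z q := fun s' => (ULift.up ((Finsupp.single s' (1 : ℤ)) s) : ULift.{u} ℤ)
  let φ : Ch ι q →ₗ[ℤ] ULift.{u} ℤ :=
    ((AddEquiv.ulift : ULift.{u} ℤ ≃+ ℤ).symm.toAddMonoidHom.comp (Finsupp.applyAddHom s)).toIntLinearMap
  have hT : ∀ {a b : ℕ} (v : Fin (a + 1) → ι) (v' : Fin (b + 1) → ι), inter T v ≤ inter T v' :=
    fun _ _ => le_iInf fun _ => le_top
  have hφ : ∀ v : Fin (q + 2) → ι, φ (bd q (Finsupp.single v 1)) = dC T Z q δ v := by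
    intro v
    rw [bd_single, map_sum, dC_apply]
    refine Finset.sum_congr rfl fun j _ => ?_
    rw [map_smul]
    rfl
  have h2 : φ (bd q (bd (q + 1) (Finsupp.single t 1))) = dC T Z (q + 1) (dC T Z q δ) t := by
    rw [bd_single, map_sum, map_sum, dC_apply]
    refine Finset.sum_congr rfl fun j _ => ?_
    rw [map_smul, map_smul, hφ]
    rfl
  rw [dC_dC] at h2
  exact congrArg ULift.down h2

/-- Exactness in degrees at least the number of opens. -/
theorem exactSucc [Finite ι] (q : ℕ) (hq : Nat.card ι ≤ q + 1) : ExactSucc U P q := by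
  classical
  letI := Fintype.ofFinite ι
  letI : LinearOrder ι := LinearOrder.lift' (Fintype.equivFin ι) (Fintype.equivFin ι).injective
  intro c hc
  refine ⟨fun t => ev U P t c (htp q (Finsupp.single t 1)), funext fun t => ?_⟩
  have hψ : psi (q + 1) (Finsupp.single t 1) = 0 := by
    have h := psi_mem (q + 1) t
    have hemp : In (q + 1) t ∩ {s | StrictMono s} = (∅ : Set (Fin (q + 2) → ι)) := by
      refine Set.eq_empty_of_forall_notMem fun s hs => ?_
      have := Nat.card_le_card_of_injective s hs.2.injective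
      simp only [Nat.card_fin] at this
      omega
    rw [hemp, Finsupp.supported_empty] at h
    exact (Submodule.mem_bot ℤ).1 h
  have hh := bd_htp bd_bd q (Finsupp.single t (1 : ℤ))
  rw [hψ, sub_zero] at hh
  have e1 : dC U P q (fun t' => ev U P t' c (htp q (Finsupp.single t' 1))) t =
      ev U P t c (htp q (bd q (Finsupp.single t 1))) := by
    rw [dC_apply, bd_single, map_sum, map_sum]
    refine Finset.sum_congr rfl fun j _ => ?_
    rw [map_smul, map_smul]
    congr 1
    exact res_ev U P t (In_face t j) c (htp_mem q _)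
  rw [e1, eq_sub_of_add_eq' hh, map_sub, ← ev_bd U P t c (htp_mem (q + 1) t), hc,
    ev_eq_zero_of_dC, sub_zero, ev_single U P t c (fun b => ⟨b, rfl⟩)]
  exact res_self P _ _

theorem isZero_homology [Finite ι] (q : ℕ) (hq : Nat.card ι ≤ q) :
    IsZero ((cx U P).homology q) := by
  cases q with
  | zero =>
    haveI : IsEmpty ι := (Nat.card_eq_zero.1 (Nat.le_zero.1 hq)).resolve_right (not_infinite_iff_finite.2 ‹_›)
    haveI : Subsingleton (Cochain U P 0) := ⟨fun a b => funext fun i => isEmptyElim (i 0)⟩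
    haveI : Subsingleton ((cx U P).X 0) := (equiv U P 0).toEquiv.subsingleton
    exact ShortComplex.isZero_homology_of_isZero_X₂ _
      (show IsZero ((cx U P).X 0) from AddCommGrpCat.isZero_of_subsingleton _)
  | succ q => exact (isZero_homology_succ_iff U P q).2 (exactSucc U P q hq)

end Pairing

end Groth.Agent.Lib.Cech.CardVanish
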