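import Groth.Agent.Lib.Cech.Complex
import Mathlib.Algebra.Homology.Homotopy
import Mathlib.Algebra.Homology.Single

/-!
# The Cech complex of a family containing its union is contractible

If `U i = iSup U` then the complex is homotopy equivalent to `P (iSup U)` in degree `0`.
-/

set_option autoImplicit false
universe u

open CategoryTheory CategoryTheory.Limits TopologicalSpace Opposite

namespace Groth.Agent.Lib.Cech.Contract98

open Groth.Agent.Lib.Cech.Complex

variable {X : TopCat.{u}} {ι : Type u} (U : ι → Opens X) (P : (Opens X)ᵒᵖ ⥤ AddCommGrpCat.{u})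
  (i : ι) (hi : U i = iSup U)

include hi in
theorem inter_le_cons {q : ℕ} (x : Fin (q + 1) → ι) :
    inter U x ≤ inter U (Fin.cons i x : Fin (q + 2) → ι) :=
  le_iInf fun a => by
    refine Fin.cases ?_ (fun b => ?_) a
    · simp only [Fin.cons_zero]
      exact ((inter_le U x 0).trans (le_iSup U (x 0))).trans hi.ge
    · simpa using inter_le U x b

/-- Insertion of the distinguished index. -/
noncomputable def hC (q : ℕ) : Cochain U P (q + 1) →+ Cochain U P q :=
  AddMonoidHom.mk' (fun c x => res P (inter_le_cons U i hi x) (c (Fin.cons i x)))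
    (fun c c' => by funext x; simp)

theorem hC_dC_add_dC_hC (q : ℕ) (c : Cochain U P (q + 1)) :
    hC U P i hi (q + 1) (dC U P (q + 1) c) + dC U P q (hC U P i hi q c) = c := by
  funext x
  simp only [Pi.add_apply, hC, AddMonoidHom.mk'_apply, dC_apply, map_sum, map_zsmul, res_res]
  rw [Fin.sum_univ_succ]
  have h0 : (Fin.cons i x : Fin (q + 3) → ι) ∘ (0 : Fin (q + 3)).succAbove = x := by
    funext a; simp
  have hs : ∀ m : Fin (q + 2), (Fin.cons i x : Fin (q + 3) → ι) ∘ m.succ.succAbove =
      Fin.cons i (x ∘ m.succAbove) := by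
    intro m; funext a
    refine Fin.cases ?_ (fun b => ?_) a
    · simp
    · simp
  rw [add_assoc, ← Finset.sum_add_distrib, Finset.sum_eq_zero fun m _ => ?_, add_zero]
  · simp only [Fin.val_zero, pow_zero, one_smul]
    rw [cochain_congr U P c h0 _ le_rfl, res_self]
  · rw [cochain_congr U P c (hs m) _ ((inter_le_face U x m).trans (inter_le_cons U i hi _)),
      Fin.val_succ, pow_succ, mul_neg, mul_one, neg_smul, neg_add_cancel]

/-- The cochain of a section over the union. -/
noncomputable def aug : P.obj (op (iSup U)) →+ Cochain U P 0 :=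
  AddMonoidHom.mk' (fun s x => res P ((inter_le U x 0).trans (le_iSup U (x 0))) s)
    (fun s s' => by funext x; simp)

include hi in
theorem top_le : iSup U ≤ inter U (fun _ : Fin 1 => i) := le_iInf fun _ => hi.ge

/-- The value at the distinguished index. -/
noncomputable def ev : Cochain U P 0 →+ P.obj (op (iSup U)) :=
  AddMonoidHom.mk' (fun c => res P (top_le U i hi) (c fun _ => i)) (fun c c' => by simp)

theorem ev_aug (s : P.obj (op (iSup U))) : ev U P i hi (aug U P s) = s := by
  simp [ev, aug]

theorem dC_aug (s : P.obj (op (iSup U))) : dC U P 0 (aug U P s) = 0 := by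
  funext x
  simp [dC_apply, aug, Fin.sum_univ_two]

theorem hC_dC_add_aug_ev (c : Cochain U P 0) :
    hC U P i hi 0 (dC U P 0 c) + aug U P (ev U P i hi c) = c := by
  funext x
  simp only [Pi.add_apply, hC, ev, aug, AddMonoidHom.mk'_apply, dC_apply, map_sum, map_zsmul,
    res_res]
  rw [Fin.sum_univ_two]
  have h0 : (Fin.cons i x : Fin 2 → ι) ∘ (0 : Fin 2).succAbove = x := by funext a; simp
  have h1 : (Fin.cons i x : Fin 2 → ι) ∘ (1 : Fin 2).succAbove = fun _ => i := by
    funext a
    obtain rfl : a = 0 := Subsingleton.elim _ _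
    simp
  rw [cochain_congr U P c h0 _ le_rfl, res_self,
    cochain_congr U P c h1 _
      (((inter_le U x 0).trans (le_iSup U (x 0))).trans (top_le U i hi))]
  simp

/-- The homotopy. -/
noncomputable def hX (q : ℕ) : (cx U P).X (q + 1) ⟶ (cx U P).X q :=
  AddCommGrpCat.ofHom
    ((equiv U P q).symm.toAddMonoidHom.comp ((hC U P i hi q).comp (equiv U P (q + 1)).toAddMonoidHom))

theorem equiv_hX (q : ℕ) (x : (cx U P).X (q + 1)) :
    equiv U P q (hX U P i hi q x) = hC U P i hi q (equiv U P (q + 1) x) :=
  (equiv U P q).apply_symm_apply _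

/-- The homotopy as a family. -/
noncomputable def hh (a b : ℕ) : (cx U P).X a ⟶ (cx U P).X b :=
  if h : b + 1 = a then eqToHom (by rw [h]) ≫ hX U P i hi b else 0

theorem hh_succ (q : ℕ) : hh U P i hi (q + 1) q = hX U P i hi q := by simp [hh]

include hi in
theorem homotopyEquiv_single :
    Nonempty (HomotopyEquiv ((CochainComplex.single₀ AddCommGrpCat.{u}).obj (P.obj (op (iSup U))))
      ((cechComplexFunctor U).obj P)) := by
  let η : P.obj (op (iSup U)) ⟶ (cx U P).X 0 :=
    AddCommGrpCat.ofHom ((equiv U P 0).symm.toAddMonoidHom.comp (aug U P))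
  let π : (cx U P).X 0 ⟶ P.obj (op (iSup U)) :=
    AddCommGrpCat.ofHom ((ev U P i hi).comp (equiv U P 0).toAddMonoidHom)
  have hη : η ≫ (cx U P).d 0 1 = 0 := by
    ext s
    apply (equiv U P 1).injective
    change equiv U P 1 ((cx U P).d 0 1 ((equiv U P 0).symm (aug U P s))) = equiv U P 1 0
    rw [equiv_d, AddEquiv.apply_symm_apply, dC_aug, map_zero]
  let f := (CochainComplex.fromSingle₀Equiv (cx U P) _).symm ⟨η, hη⟩
  let g := (CochainComplex.toSingle₀Equiv (cx U P) _).symm π
  have hf : f.f 0 = η := CochainComplex.fromSingle₀Equiv_symm_apply_f_zero η hη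
  have hg : g.f 0 = π := CochainComplex.toSingle₀Equiv_symm_apply_f_zero π
  refine ⟨⟨f, g, Homotopy.ofEq ?_, (Homotopy.symm (?_ : Homotopy (𝟙 _) (g ≫ f)))⟩⟩
  · refine HomologicalComplex.from_single_hom_ext ?_
    rw [HomologicalComplex.comp_f, hf, hg]
    ext s
    change ev U P i hi (equiv U P 0 ((equiv U P 0).symm (aug U P s))) = s
    rw [AddEquiv.apply_symm_apply, ev_aug]
  · refine
      { hom := hh U P i hi
        zero := fun a b hab => dif_neg hab
        comm := fun n => ?_ }
    rw [Homotopy.dNext_cochainComplex, hh_succ]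
    rcases n with _ | n
    · rw [prevD_eq_zero _ _ (by simp), HomologicalComplex.comp_f, hf, hg]
      ext x
      apply (equiv U P 0).injective
      change equiv U P 0 x = equiv U P 0
        (hX U P i hi 0 ((cx U P).d 0 1 x) + 0 + (equiv U P 0).symm (ev U P i hi (equiv U P 0 x) |> aug U P))
      rw [add_zero, map_add, AddEquiv.apply_symm_apply, equiv_hX, equiv_d, hC_dC_add_aug_ev]
    · rw [Homotopy.prevD_succ_cochainComplex, hh_succ, HomologicalComplex.comp_f,
        (HomologicalComplex.isZero_single_obj_X _ 0 (P.obj (op (iSup U))) (n + 1) (by simp)).eq_of_tgt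
          (g.f (n + 1)) 0, zero_comp]
      ext x
      apply (equiv U P (n + 1)).injective
      change equiv U P (n + 1) x = equiv U P (n + 1)
        (hX U P i hi (n + 1) ((cx U P).d (n + 1) (n + 2) x) + (cx U P).d n (n + 1) (hX U P i hi n x) + 0)
      rw [add_zero, map_add, equiv_hX, equiv_d, equiv_d, equiv_hX, hC_dC_add_dC_hC]

end Groth.Agent.Lib.Cech.Contract98
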