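import Groth.Agent.Lib.Cech.Acyclic
import Groth.Agent.Lib.QCoh.Localizing
import Groth.Prelude.Def_CohB1

/-!
# Cech acyclicity of quasi-coherent modules for coverings by basic opens
-/

universe u

open CategoryTheory CategoryTheory.Limits AlgebraicGeometry TopologicalSpace Opposite

namespace Groth.Agent.Lib.Cech.Module

open Groth.Agent.Lib.Cech.Complex Groth.Agent.Lib.Cech.Acyclic

lemma inter_eq_inf {X : TopCat.{u}} {ι : Type u} (U : ι → Opens X) {q : ℕ} (k : ι)
    (i : Fin (q + 1) → ι) :
    inter U (Fin.cons k i : Fin (q + 2) → ι) = U k ⊓ inter U i := by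
  refine le_antisymm (le_inf ?_ (inter_cons_le U k i)) (le_iInf fun a => ?_)
  · simpa using inter_le U (Fin.cons k i : Fin (q + 2) → ι) 0
  · induction a using Fin.cases with
    | zero => simp
    | succ a => simpa using inf_le_right.trans (inter_le U i a)

variable {X : Scheme.{u}}

lemma isCompact_inter [QuasiSeparatedSpace X] {ι : Type u} (U : ι → X.Opens)
    (hU : ∀ i, IsCompact (U i : Set X)) :
    ∀ {q : ℕ} (i : Fin (q + 1) → ι), IsCompact (inter U i : Set X) := by
  intro q
  induction q with
  | zero =>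
    intro i
    rw [show inter U i = U (i 0) from le_antisymm (inter_le U i 0)
      (le_iInf fun a => by rw [Subsingleton.elim (α := Fin 1) a 0])]
    exact hU _
  | succ q ih =>
    intro i
    rw [show i = Fin.cons (i 0) (Fin.tail i) from (Fin.cons_self_tail i).symm, inter_eq_inf]
    exact QuasiSeparatedSpace.inter_isCompact _ _ (U (i 0)).2 (hU _) (inter U _).2 (ih _)

/-- Cech acyclicity for a quasi-coherent module with respect to finitely many `D(f_k)` in an open
`V` whose functions `f_k` generate the unit ideal of `Γ(X, V)`. -/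
theorem exactSucc_basicOpens {ι : Type u} [Finite ι] (M : X.Modules) [M.IsQuasicoherent]
    {V : X.Opens} (f : ι → Γ(X, V)) (hf : Ideal.span (Set.range f) = ⊤) (U : ι → X.Opens)
    (hU : ∀ k, U k = X.basicOpen (f k))
    (hc : ∀ {q : ℕ} (i : Fin (q + 1) → ι), IsCompact (inter U i : Set X))
    (hqs : ∀ {q : ℕ} (i : Fin (q + 1) → ι), IsQuasiSeparated (inter U i : Set X))
    (q : ℕ) : ExactSucc U M.presheaf q := by
  have hle : ∀ {q : ℕ} (i : Fin (q + 1) → ι), inter U i ≤ V := fun {q} i =>
    (inter_le U i 0).trans ((hU _).trans_le (X.basicOpen_le _))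
  let : ∀ (q : ℕ) (i : Fin (q + 1) → ι), _root_.Module Γ(X, V) (M.presheaf.obj (op (inter U i))) :=
    fun q i => Module.compHom Γ(M, inter U i) (X.presheaf.map (homOfLE (hle i)).op).hom
  have hbo : ∀ {q : ℕ} (i : Fin (q + 1) → ι) (k : ι),
      inter U (Fin.cons k i : Fin (q + 2) → ι) =
        X.basicOpen ((X.presheaf.map (homOfLE (hle i)).op).hom (f k)) := fun i k => by
    rw [inter_eq_inf, Scheme.basicOpen_res, inf_comm, hU]
  refine exactSucc_of_localization U M.presheaf f hf (fun {p q} i j h r x => ?_)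
    (fun i k t ht => ?_) (fun i k s => ?_) q
  · show (M.presheaf.map _).hom _ = _
    change _ = (X.presheaf.map (homOfLE (hle i)).op).hom r • res M.presheaf h x
    refine (M.map_smul (homOfLE h) _ _).trans ?_
    congr 1
    exact QCoh.Localizing.resR_resR (X := X) (hle j) h r
  · obtain ⟨n, hn⟩ := ((QCoh.Localizing.localizes_of_qcqs M (hc i) (hqs i) _).sep).exists_of_eq
      (hbo i k) (inter_cons_le U k i) t ht
    refine ⟨n, ?_⟩
    change (X.presheaf.map (homOfLE (hle i)).op).hom (f k ^ n) • t = 0
    rw [map_pow]; exact hn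
  · obtain ⟨n, t, hn⟩ := ((QCoh.Localizing.localizes_of_qcqs M (hc i) (hqs i) _).ext').exists_of_eq
      (hbo i k) (inter_cons_le U k i) s
    refine ⟨n, t, hn.trans ?_⟩
    change _ = (X.presheaf.map
      (homOfLE (hle (Fin.cons k i : Fin (_ + 2) → ι))).op).hom (f k ^ n) • s
    rw [map_pow]
    congr 2
    exact QCoh.Localizing.resR_resR (X := X) (hle i) (inter_cons_le U k i) (f k)

end Groth.Agent.Lib.Cech.Module
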